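import Cfsg.Agent.Lib.Sporadic.LargeFischer.Setup

/-!
# Groups of large Fischer type: coordinates in which the orbit of length 378 contains `c6 0`
-/

set_option autoImplicit false
set_option linter.unusedSectionVars false

namespace CfsgLib.Sporadic.LargeFischer

/-- The phase change at the coordinate zero. -/
def shift (k : ZMod 3) : V6 ≃ₗ[ZMod 2] V6 where
  toFun v i := omp (phase0 k i) (v i)
  invFun v i := omp (-phase0 k i) (v i)
  map_add' u v := funext fun i => omp_linear _ _ _
  map_smul' c v := funext fun i => by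
    rcases (by decide : ∀ c : ZMod 2, c = 0 ∨ c = 1) c with rfl | rfl
    · simp only [zero_smul, RingHom.id_apply, Pi.zero_apply]; exact (omp_spec _ (0 : D4)).1
    · simp only [one_smul, RingHom.id_apply]
  left_inv v := funext fun i => by
    show omp (-phase0 k i) (omp (phase0 k i) (v i)) = v i
    rw [omp_add, neg_add_cancel]; rfl
  right_inv v := funext fun i => by
    show omp (phase0 k i) (omp (-phase0 k i) (v i)) = v i
    rw [omp_add, add_neg_cancel]; rfl

theorem shift_apply (k : ZMod 3) (v : V6) (i : Fin 6) : shift k v i = omp (phase0 k i) (v i) := rfl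

theorem shift_symm_apply (k : ZMod 3) (v : V6) (i : Fin 6) : (shift k).symm v i = omp (-phase0 k i) (v i) := rfl

theorem qs_shift (k : ZMod 3) (v : V6) : qs (shift k v) = qs v := Finset.sum_congr rfl fun i _ => by
  rw [shift_apply]
  generalize v i = d; generalize phase0 k i = j
  revert j d; decide

theorem omV_shift (k : ZMod 3) (v : V6) : shift k (omV v) = omV (shift k v) := funext fun i => by
  rw [shift_apply]
  show omp _ (om (v i)) = om (omp _ (v i))
  generalize v i = d; generalize phase0 k i = j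
  revert j d; decide

/-- Conjugation by the phase change. -/
def shiftConj (k : ZMod 3) : (V6 ≃ₗ[ZMod 2] V6) →* (V6 ≃ₗ[ZMod 2] V6) where
  toFun g := shift k * g * (shift k)⁻¹
  map_one' := by simp
  map_mul' g g' := by simp [mul_assoc]

theorem shiftConj_apply (k : ZMod 3) (g : V6 ≃ₗ[ZMod 2] V6) (v : V6) :
    shiftConj k g v = shift k (g ((shift k).symm v)) := rfl

namespace Model

variable {K : Subgroup (V6 ≃ₗ[ZMod 2] V6)} (h : Model K)
include h

theorem map_shift (k : ZMod 3) : Model (K.map (shiftConj k)) := by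
  refine ⟨?_, ?_, ?_, ?_, ?_⟩
  · rintro _ ⟨g, hg, rfl⟩ v
    rw [shiftConj_apply, qs_shift, h.quad g hg]
    conv_rhs => rw [← (shift k).apply_symm_apply v, qs_shift]
  · intro a ha
    obtain ⟨g, hg, hgv⟩ := h.diag a ha
    refine ⟨_, ⟨g, hg, rfl⟩, fun v i => ?_⟩
    rw [shiftConj_apply, shift_apply, hgv, shift_symm_apply, omp_add, omp_add]
    congr 1
    abel
  · intro p hp
    obtain ⟨g, hg, hgv⟩ := h.perm p hp
    obtain ⟨d, hd, hdv⟩ := h.diag (fun i => -phase0 k i + phase0 k (p.symm i)) (by
      rw [Finset.sum_add_distrib, Finset.sum_neg_distrib, Equiv.sum_comp _ (phase0 k), neg_add_cancel])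
    refine ⟨_, ⟨d * g, mul_mem hd hg, rfl⟩, fun v i => ?_⟩
    rw [shiftConj_apply, shift_apply, LinearEquiv.mul_apply, hdv, hgv, shift_symm_apply, omp_add, omp_add,
      p.symm_apply_apply]
    rw [show phase0 k (p i) + (-phase0 k (p i) + phase0 k i) + -phase0 k i = 0 by abel]
    rfl
  · rintro _ ⟨g, hg, rfl⟩
    have hs : ∀ v, (shift k).symm (omV v) = omV ((shift k).symm v) := fun v => (shift k).injective (by
      rw [omV_shift, LinearEquiv.apply_symm_apply, LinearEquiv.apply_symm_apply])
    rcases h.scal g hg with e | e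
    · exact Or.inl fun v => by rw [shiftConj_apply, shiftConj_apply, hs, e, omV_shift]
    · exact Or.inr fun v => by rw [shiftConj_apply, shiftConj_apply, hs, e, omV_shift, omV_shift]
  · rw [Subgroup.card_map_of_injective (f := shiftConj k) fun a b e => ?_, h.card]
    exact mul_left_cancel (mul_right_cancel e)

theorem exists_class : ∃ k : ZMod 3, h.orb (c6 k) = h.orb c2 := by
  classical
  by_contra hc
  push Not at hc
  obtain ⟨hne, h2, -, hall, -⟩ := h.two_orbits
  have hsub : h.orb c2 ⊆ Finset.univ.filter fun v : V6 => wt v = 2 := by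
    intro v hv
    have hq := h.qs_zero_of_orb hv
    rw [show qs c2 = 0 by decide] at hq
    rcases h.wt_cases hq (h.ne_zero_of_orb (by decide) hv) with e | e | e
    · simp [e]
    · exact absurd ((h.orb_eq hv).symm.trans (h.canon_four e)) hne
    · exact absurd ((h.canon_six e).symm.trans (h.orb_eq hv)) (hc _)
  have := Finset.card_le_card hsub
  rw [h2, counts.1] at this
  omega

end Model

namespace LF

variable {G : Type*} [Group G] [Finite G] {z : G} {Q : Subgroup G} {π : G → V6}
  {ψ : ↥(Subgroup.centralizer ({z} : Set G)) →* (V6 ≃ₗ[ZMod 2] V6)} (h : LF z Q π ψ)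
include h

theorem shifted (k : ZMod 3) : LF z Q (fun a => shift k (π a)) ((shiftConj k).comp ψ) where
  ord_z := h.ord_z
  extra := h.extra
  card_Q := h.card_Q
  norm := h.norm
  cent_le := h.cent_le
  π_mul a ha b hb := by rw [h.π_mul a ha b hb, map_add]
  π_surj v := by
    obtain ⟨a, ha, e⟩ := h.π_surj ((shift k).symm v)
    exact ⟨a, ha, by rw [e, LinearEquiv.apply_symm_apply]⟩
  π_ker a ha := by rw [LinearEquiv.map_eq_zero_iff, h.π_ker a ha]
  q_iff a ha := by rw [qs_shift, h.q_iff a ha]
  act c a ha := by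
    show _ = shiftConj k (ψ c) (shift k (π a))
    rw [shiftConj_apply, LinearEquiv.symm_apply_apply, h.act c a ha]
  ker c := by
    rw [← h.ker c]
    constructor
    · intro e
      have e' : shift k * ψ c * (shift k)⁻¹ = 1 := e
      exact conj_eq_one_iff.1 e'
    · intro e
      show shiftConj k (ψ c) = 1
      rw [e, map_one]
  model := by rw [MonoidHom.range_comp]; exact h.model.map_shift k
  series := by
    obtain ⟨N, M, hN, hM, h1, h2, h3, h4, ⟨c, hc, hcv⟩, h6⟩ := h.series
    refine ⟨N, M, hN, hM, h1, h2, h3, h4, ⟨c, hc, fun v => ?_⟩, h6⟩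
    show shiftConj k (ψ c) v = _
    rw [shiftConj_apply, hcv, omV_shift, LinearEquiv.apply_symm_apply]

end LF

/-- The configuration with the orbit of length 378 in standard position. -/
theorem exists_lf_std {G : Type*} [Group G] [Finite G] (z : G) (Q : Subgroup (Subgroup.centralizer ({z} : Set G)))
    [Q.Normal] (hF : Cfsg.IsOfLargeFischerTypeAt z Q) :
    ∃ π ψ, ∃ h : LF z (qImg Q) π ψ, h.model.orb (c6 0) = h.model.orb c2 := by
  obtain ⟨π, ψ, h⟩ := exists_lf z Q hF
  obtain ⟨k, hk⟩ := h.model.exists_class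
  refine ⟨_, _, h.shifted (-k), ?_⟩
  refine (Model.orb_eq _ ?_)
  -- a vector of weight two is carried to `c2`
  have hw : wt ((shift (-k)).symm c2) = 2 := (by decide : ∀ k : ZMod 3, wt ((shift (-k)).symm c2) = 2) k
  obtain ⟨g, ⟨c, rfl⟩, hg⟩ : ∃ g ∈ ψ.range, g ((shift (-k)).symm c2) = c6 k := by
    refine h.model.mem_orb.1 ?_
    rw [h.model.canon_two hw, ← hk]
    exact h.model.self_mem _
  refine (Model.mem_orb _).2 ⟨_, ⟨c, rfl⟩, ?_⟩
  show shiftConj (-k) (ψ c) c2 = c6 0
  rw [shiftConj_apply, hg]
  funext i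
  rw [shift_apply, c6_comp, c6_comp, omp_add]
  congr 1
  exact (by decide : ∀ (k : ZMod 3) (i : Fin 6), phase0 (-k) i + phase0 k i = phase0 0 i) k i

end CfsgLib.Sporadic.LargeFischer
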