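import Cfsg.Agent.Lib.Sporadic.LargeFischer.Explicit.Closure
import Cfsg.Agent.Lib.Sporadic.LargeFischer.Explicit.Normal
import Cfsg.Agent.Lib.Sporadic.LargeFischer.Classes

/-!
# The centraliser of `z` does not act linearly

If it did, a preimage of `omV π(s)` in `Q ∩ Q^g` would centralise the half of `Q^g` centralising `z`.
-/

set_option autoImplicit false
set_option linter.unusedSectionVars false

namespace CfsgLib.Sporadic.LargeFischer

open CfsgLib.ThreeTransp.Extraspecial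

/-- An element of an extraspecial group commuting with the half centralising an involution `u`. -/
theorem half_centralizer {G : Type*} [Group G] [Finite G] {P : Subgroup G} {s u r : G} (h : Extra P s) (hu : u ∈ P)
    (hu1 : u ≠ 1) (hus : u ≠ s) (hr : r ∈ P) (hc : ∀ d ∈ P, d * u = u * d → d * r = r * d) :
    r = 1 ∨ r = s ∨ r * u = 1 ∨ r * u = s := by
  obtain ⟨q, hq, hqu⟩ := h.exists_conj_eq hu hu1 hus
  -- commuting with `q` and with the half is commuting with everything
  have key : ∀ x ∈ P, q * x = x * q → (∀ d ∈ P, d * u = u * d → d * x = x * d) → x = 1 ∨ x = s := by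
    intro x hx hqx hdx
    refine h.mem_center_cases hx fun e he => ?_
    rcases h.conj_cases hu he with c | c
    · exact (hdx e he (mul_inv_eq_iff_eq_mul.1 c)).symm
    · have hd : q⁻¹ * e * u = u * (q⁻¹ * e) := by
        refine mul_inv_eq_iff_eq_mul.1 ?_
        calc q⁻¹ * e * u * (q⁻¹ * e)⁻¹ = q⁻¹ * (e * u * e⁻¹) * q := by group
          _ = q⁻¹ * (q * u * q⁻¹) * q := by rw [c, hqu]
          _ = u := by group
      have h1 := hdx _ (mul_mem (inv_mem hq) he) hd
      calc x * e = q * (q⁻¹ * x * e) := by group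
        _ = q * (x * (q⁻¹ * e)) := by
          rw [show q⁻¹ * x = x * q⁻¹ from (Commute.inv_left hqx).eq]; group
        _ = e * x := by rw [← h1]; group
  rcases h.conj_cases hr hq with c | c
  · rcases key r hr (mul_inv_eq_iff_eq_mul.1 c) hc with e | e
    · exact Or.inl e
    · exact Or.inr (Or.inl e)
  · have hqru : q * (r * u) = r * u * q := by
      refine mul_inv_eq_iff_eq_mul.1 ?_
      calc q * (r * u) * q⁻¹ = (q * r * q⁻¹) * (q * u * q⁻¹) := by group
        _ = r * (s * u) * s := by rw [c, hqu]; group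
        _ = r * u * (s * s) := by rw [h.z_comm hu]; group
        _ = r * u := by rw [h.z_sq, mul_one]
    have hd : ∀ d ∈ P, d * u = u * d → d * (r * u) = r * u * d := fun d hd hdu => by
      rw [← mul_assoc, hc d hd hdu, mul_assoc, hdu, ← mul_assoc]
    rcases key _ (mul_mem hr hu) hqru hd with e | e
    · exact Or.inr (Or.inr (Or.inl e))
    · exact Or.inr (Or.inr (Or.inr e))

namespace LF

variable {G : Type*} [Group G] [Finite G] {z : G} {Q : Subgroup G} {π : G → V6}
  {ψ : ↥(Subgroup.centralizer ({z} : Set G)) →* (V6 ≃ₗ[ZMod 2] V6)} (h : LF z Q π ψ)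
include h

/-- A conjugate of `z` over `c4`. -/
theorem exists_over_c4 {g : G} (hu : g * z * g⁻¹ ∈ Q) (hne : g * z * g⁻¹ ≠ z) :
    ∃ g' : G, g' * z * g'⁻¹ ∈ Q ∧ g' * z * g'⁻¹ ≠ z ∧ π (g' * z * g'⁻¹) = c4 := by
  obtain ⟨k, ⟨c, rfl⟩, hk⟩ := h.model.mem_orb.1
    ((h.fused_orbit hu hne).symm ▸ h.model.self_mem c4 : c4 ∈ h.model.orb (π (g * z * g⁻¹)))
  have hc := Subgroup.mem_centralizer_singleton_iff.1 c.2
  have e : (c : G) * g * z * ((c : G) * g)⁻¹ = (c : G) * (g * z * g⁻¹) * (c : G)⁻¹ := by group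
  refine ⟨c * g, ?_, fun e1 => hne ?_, ?_⟩
  · rw [e]; exact h.norm c hc _ hu
  · rw [e] at e1
    calc g * z * g⁻¹ = (c : G)⁻¹ * ((c : G) * (g * z * g⁻¹) * (c : G)⁻¹) * c := by group
      _ = (c : G)⁻¹ * (z * c) := by rw [e1]; group
      _ = z := by rw [← hc]; group
  · rw [e, h.act c _ hu, hk]

/-- Some element of the centraliser of `z` acts semilinearly. -/
theorem exists_semilinear (hpos : h.model.orb (c6 0) = h.model.orb c2) {g₀ : G} (hu₀ : g₀ * z * g₀⁻¹ ∈ Q)
    (hne₀ : g₀ * z * g₀⁻¹ ≠ z) : ¬ ∀ k ∈ ψ.range, Explicit.Lin k := by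
  intro hlin
  obtain ⟨g, hu, hne, hg4⟩ := h.exists_over_c4 hu₀ hne₀
  obtain ⟨-, -, hzR, hsR, h16, -⟩ := h.inter_props hu hne
  obtain ⟨Rb, hRb, hsing, hcard, hinv⟩ := h.inter_image hu hne
  rw [hg4] at hinv
  have hstd : Explicit.Std ψ.range := ⟨h.model, hpos⟩
  have h4 : c4 ∈ Rb := (hRb _).2 ⟨_, hsR, hg4⟩
  have hbig : ∃ v ∈ Rb, v ≠ 0 ∧ v ≠ c4 := by
    by_contra hc
    push Not at hc
    classical
    have hle : Nat.card Rb ≤ ({0, c4} : Finset V6).card := by
      rw [← SetLike.coe_sort_coe, Nat.card_coe_set_eq, ← Set.ncard_coe_finset]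
      refine Set.ncard_le_ncard (fun v hv => ?_) (Finset.finite_toSet _)
      rw [Finset.mem_coe, Finset.mem_insert, Finset.mem_singleton]
      by_cases h0 : v = 0
      · exact Or.inl h0
      · exact Or.inr (hc v hv h0)
    have := hle.trans Finset.card_le_two
    omega
  obtain ⟨r, hr, hrπ⟩ := (hRb _).1 (hstd.omV_mem Rb hsing h4 hinv hbig)
  set s := g * z * g⁻¹ with hs
  set P := Q.map (MulAut.conj g).toMonoidHom with hP
  have hP' : Extra P s := h.extra.map_conj g
  have hcomm : ∀ d ∈ P, d * z = z * d → d * r = r * d := by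
    intro d hd hdz
    set c : ↥(Subgroup.centralizer ({z} : Set G)) := ⟨d, Subgroup.mem_centralizer_singleton_iff.2 hdz⟩ with hc
    have hds : d * s * d⁻¹ = s := by rw [← hP'.z_comm hd]; group
    have hfix : ψ c c4 = c4 := by rw [← hg4, ← h.act c s hu]; exact congrArg π hds
    have hπ : π (d * r * d⁻¹) = π r := by
      rw [show d * r * d⁻¹ = (c : G) * r * (c : G)⁻¹ from rfl, h.act c r hr.1, hrπ, hlin _ ⟨c, rfl⟩, hfix]
    rcases (h.π_eq_iff hr.1 (h.norm d hdz r hr.1)).1 hπ.symm with e | e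
    · exact mul_inv_eq_iff_eq_mul.1 e
    · rcases hP'.conj_cases hr.2 hd with e' | e'
      · exact mul_inv_eq_iff_eq_mul.1 e'
      · exact absurd (mul_left_cancel (e.symm.trans e')).symm hne
  have hval : π r ≠ 0 ∧ π r ≠ c4 := by rw [hrπ]; decide
  have hz1 : z ≠ s := fun e => hne e.symm
  rcases half_centralizer hP' hzR.2 h.extra.z_ne hz1 hr.2 hcomm with e | e | e | e
  · exact hval.1 (by rw [e, h.π_one])
  · exact hval.2 (by rw [e, hg4])
  · refine hval.1 ?_
    rw [eq_inv_of_mul_eq_one_left e, h.π_inv h.extra.z_mem, h.π_z]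
  · refine hval.2 ?_
    rw [← hg4, ← e, h.π_mul r hr.1 z h.extra.z_mem, h.π_z, add_zero]

end LF

/-- The configuration in standard position, with the centraliser acting semilinearly. -/
theorem exists_lf_semilinear {G : Type*} [Group G] [Finite G] (z : G)
    (Q : Subgroup (Subgroup.centralizer ({z} : Set G))) [Q.Normal] (hF : Cfsg.IsOfLargeFischerTypeAt z Q) :
    ∃ π ψ, ∃ h : LF z (qImg Q) π ψ,
      h.model.orb (c6 0) = h.model.orb c2 ∧ ¬ ∀ k ∈ ψ.range, Explicit.Lin k := by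
  obtain ⟨π, ψ, h, hpos⟩ := exists_lf_std z Q hF
  obtain ⟨g, ⟨hq, hgQ⟩, hne⟩ := hF.1.2.2.2.2
  exact ⟨π, ψ, h, hpos, h.exists_semilinear hpos (mem_qImg.2 ⟨hq, hgQ⟩) hne⟩

end CfsgLib.Sporadic.LargeFischer
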