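import Cfsg.Agent.Lib.Sporadic.LargeFischer.Explicit.ChainData

/-!
# The linear group preserving the set of 378 vectors
-/

set_option autoImplicit false
set_option linter.unusedSectionVars false
set_option maxRecDepth 100000

namespace CfsgLib.Sporadic.LargeFischer.Explicit

/-- A bit as an element of the field with two elements. -/
def bit (b : Bool) : ZMod 2 := if b then 1 else 0

/-- The vector with the given code. -/
def dec (n : ℕ) : V6 := fun i => (bit (n.testBit (2 * i.1)), bit (n.testBit (2 * i.1 + 1)))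

/-- The code of an element of the field with four elements. -/
def code4 (d : D4) : ℕ := d.1.val + 2 * d.2.val

/-- The code of a vector. -/
def code (v : V6) : ℕ :=
  code4 (v 0) + 4 * code4 (v 1) + 16 * code4 (v 2) + 64 * code4 (v 3) + 256 * code4 (v 4) + 1024 * code4 (v 5)

/-- The element of the field with the given code. -/
def dec4 (n : ℕ) : D4 := (bit (n.testBit 0), bit (n.testBit 1))

theorem code4_spec : ∀ d : D4, code4 d < 4 ∧ dec4 (code4 d) = d := by decide

theorem testBit_add_four (a b k : ℕ) (ha : a < 4) :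
    (a + 4 * b).testBit (k + 2) = b.testBit k ∧ (a + 4 * b).testBit 0 = a.testBit 0 ∧
      (a + 4 * b).testBit 1 = a.testBit 1 := by
  refine ⟨?_, ?_, ?_⟩
  · rw [Nat.testBit_succ, Nat.testBit_succ]; congr 1; omega
  · rw [Nat.testBit_zero, Nat.testBit_zero]; congr 1; exact propext ⟨fun h => by omega, fun h => by omega⟩
  · rw [Nat.testBit_succ, Nat.testBit_succ, Nat.testBit_zero, Nat.testBit_zero]; congr 1
    exact propext ⟨fun h => by omega, fun h => by omega⟩

theorem code_lt (v : V6) : code v < 4096 := by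
  have h := fun i => (code4_spec (v i)).1
  have := h 0; have := h 1; have := h 2; have := h 3; have := h 4; have := h 5
  unfold code; omega

theorem dec_code (v : V6) : dec (code v) = v := by
  have key : ∀ (a b : ℕ) (i : ℕ), a < 4 → (bit ((a + 4 * b).testBit (2 * (i + 1))),
      bit ((a + 4 * b).testBit (2 * (i + 1) + 1))) = (bit (b.testBit (2 * i)), bit (b.testBit (2 * i + 1))) := by
    intro a b i ha
    rw [show 2 * (i + 1) + 1 = (2 * i + 1) + 2 by ring, show 2 * (i + 1) = 2 * i + 2 by ring,
      (testBit_add_four a b (2 * i) ha).1, (testBit_add_four a b (2 * i + 1) ha).1]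
  have base : ∀ (a b : ℕ), a < 4 → (bit ((a + 4 * b).testBit 0), bit ((a + 4 * b).testBit 1)) = dec4 a := by
    intro a b ha
    rw [(testBit_add_four a b 0 ha).2.1, (testBit_add_four a b 0 ha).2.2]; rfl
  have h := fun i => (code4_spec (v i)).1
  have e : code v = code4 (v 0) + 4 * (code4 (v 1) + 4 * (code4 (v 2) + 4 * (code4 (v 3) + 4 * (code4 (v 4) +
      4 * (code4 (v 5) + 4 * 0))))) := by unfold code; ring
  funext i
  show (bit ((code v).testBit (2 * i.1)), bit ((code v).testBit (2 * i.1 + 1))) = v i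
  rw [e]
  fin_cases i
  · exact (base _ _ (h 0)).trans (code4_spec _).2
  · rw [key _ _ 0 (h 0)]; exact (base _ _ (h 1)).trans (code4_spec _).2
  · rw [key _ _ 1 (h 0), key _ _ 0 (h 1)]; exact (base _ _ (h 2)).trans (code4_spec _).2
  · rw [key _ _ 2 (h 0), key _ _ 1 (h 1), key _ _ 0 (h 2)]; exact (base _ _ (h 3)).trans (code4_spec _).2
  · rw [key _ _ 3 (h 0), key _ _ 2 (h 1), key _ _ 1 (h 2), key _ _ 0 (h 3)]
    exact (base _ _ (h 4)).trans (code4_spec _).2
  · rw [key _ _ 4 (h 0), key _ _ 3 (h 1), key _ _ 2 (h 2), key _ _ 1 (h 3), key _ _ 0 (h 4)]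
    exact (base _ _ (h 5)).trans (code4_spec _).2

theorem code_injective : Function.Injective code := fun u v h => by rw [← dec_code u, ← dec_code v, h]

/-- Reduction of a statement about all vectors to the codes. -/
theorem forall_of_codes {p : V6 → Bool} (h : (List.range 4096).all (fun n => p (dec n)) = true) (v : V6) :
    p v = true := by
  have := List.all_eq_true.1 h (code v) (List.mem_range.2 (code_lt v))
  rwa [dec_code] at this

/-- Non-vanishing. -/
def nz (d : D4) : ℕ := if d = 0 then 0 else 1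

/-- Membership of the orbit of length 378. -/
def inOb (v : V6) : Bool :=
  match nz (v 0) + nz (v 1) + nz (v 2) + nz (v 3) + nz (v 4) + nz (v 5) with
  | 2 => true
  | 6 => dlog (v 0) + dlog (v 1) + dlog (v 2) + dlog (v 3) + dlog (v 4) + dlog (v 5) == 0
  | _ => false

/-- The base. -/
def pre (i : ℕ) : V6 := dec (preCodes.getD i 0)

theorem pre_zero : pre 0 = c2 := by decide +kernel

theorem inOb_spec (v : V6) : inOb v = true ↔ wt v = 2 ∨ (wt v = 6 ∧ cls v = 0) := by
  have hw : wt v = nz (v 0) + nz (v 1) + nz (v 2) + nz (v 3) + nz (v 4) + nz (v 5) := by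
    rw [wt, Finset.card_filter, Fin.sum_univ_six]
    simp only [nz, ne_eq, ite_not]
  have hc : cls v = dlog (v 0) + dlog (v 1) + dlog (v 2) + dlog (v 3) + dlog (v 4) + dlog (v 5) := by
    rw [cls, Fin.sum_univ_six]
  rw [hw, hc]
  unfold inOb
  split <;> rename_i h <;> simp_all

theorem qs_of_inOb {v : V6} (h : inOb v = true) : qs v = 0 := by
  rcases (inOb_spec v).1 h with e | ⟨e, -⟩ <;> rw [qs_eq_wt, e] <;> decide

theorem herm_of_inOb {v : V6} (h : inOb v = true) : herm v v = 0 := by
  rw [herm_self, qs_of_inOb h]; rfl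

theorem inOb_c2 : inOb c2 = true := by decide +kernel

/-- The linear isometries preserving the set of 378 vectors. -/
noncomputable def AL : Subgroup (V6 ≃ₗ[ZMod 2] V6) where
  carrier := {g | Lin g ∧ (∀ v, qs (g v) = qs v) ∧ ∀ v, inOb (g v) = inOb v}
  one_mem' := ⟨Lin.one, fun _ => rfl, fun _ => rfl⟩
  mul_mem' := fun {g k} hg hk => ⟨hg.1.mul hk.1, fun v => (hg.2.1 (k v)).trans (hk.2.1 v),
    fun v => (hg.2.2 (k v)).trans (hk.2.2 v)⟩
  inv_mem' := fun {g} hg => ⟨hg.1.inv, fun v => by
      show qs (g.symm v) = qs v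
      conv_rhs => rw [← g.apply_symm_apply v, hg.2.1],
    fun v => by
      show inOb (g.symm v) = inOb v
      conv_rhs => rw [← g.apply_symm_apply v, hg.2.2]⟩

/-- The subgroup fixing the first `i` base vectors. -/
noncomputable def Fx (i : ℕ) : Subgroup (V6 ≃ₗ[ZMod 2] V6) where
  carrier := {g | g ∈ AL ∧ ∀ j < i, g (pre j) = pre j}
  one_mem' := ⟨one_mem _, fun _ _ => rfl⟩
  mul_mem' := fun {g k} hg hk => ⟨mul_mem hg.1 hk.1, fun j hj => by
    show g (k (pre j)) = _
    rw [hk.2 j hj, hg.2 j hj]⟩
  inv_mem' := fun {g} hg => ⟨inv_mem hg.1, fun j hj => by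
    show g.symm (pre j) = _
    rw [g.symm_apply_eq, hg.2 j hj]⟩

/-- Admissible images of the base vector `i`. -/
def cand (i : ℕ) (x : V6) : Bool :=
  inOb x && (List.range i).all (fun j => herm x (pre j) == herm (pre i) (pre j)) &&
    (match i with
      | 1 => !inOb (x + pre 0) && !inOb (x + sc (0, 1) (pre 0))
      | 4 => inOb (x + pre 0 + pre 2 + sc (0, 1) (pre 3))
      | _ => true)

/-- The transvections fixing the first `i` base vectors generate. -/
noncomputable def GT (i : ℕ) : Subgroup (V6 ≃ₗ[ZMod 2] V6) :=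
  Subgroup.closure {g | ∃ t, inOb t = true ∧ (∀ j < i, herm (pre j) t = 0) ∧ g = tv t}

/-- The points of the orbit of a level. -/
def children (i : ℕ) : List ℕ := (levels.getD i []).map (·.1)

/-- The correctness of a level. -/
def levelOk (i : ℕ) : Bool :=
  let L := levels.getD i []
  let C := children i
  (L.zipIdx).all fun e =>
    e.1.1 < 4096 &&
    if e.2 = 0 then e.1.1 == preCodes.getD i 0
    else e.1.2.1 < e.2 && inOb (dec e.1.2.2) && (List.range i).all (fun j => herm (pre j) (dec e.1.2.2) == 0) &&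
      code (tvFun (dec e.1.2.2) (dec (C.getD e.1.2.1 0))) == e.1.1

theorem level_ok : (List.range 6).all levelOk = true := by decide +kernel

theorem level_complete : (List.range 6).all (fun i =>
    (List.range 4096).all fun n => !cand i (dec n) || (children i).contains n) = true := by decide +kernel

theorem level_nodup : ∀ i < 6, (children i).Nodup := by decide +kernel

theorem level_len : ∀ i < 6, (children i).length = [378, 135, 32, 6, 1, 2].getD i 0 := by decide +kernel

theorem preCodes_ok : ∀ i < 6, pre i = dec (preCodes.getD i 0) ∧ inOb (pre i) = true ∧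
    code (pre i) = preCodes.getD i 0 := by decide +kernel

/-- The sum over the base with coefficients given by codes. -/
def combo (cs : List ℕ) : V6 :=
  sc (dec4 (cs.getD 0 0)) (pre 0) + sc (dec4 (cs.getD 1 0)) (pre 1) + sc (dec4 (cs.getD 2 0)) (pre 2) +
    sc (dec4 (cs.getD 3 0)) (pre 3) + sc (dec4 (cs.getD 4 0)) (pre 4) + sc (dec4 (cs.getD 5 0)) (pre 5)

theorem units_ok : ∀ i : Fin 6, combo (unitCoords.getD i.1 []) = Pi.single i (1, 0) := by decide +kernel

theorem sum_units (v : V6) : v = ∑ i, sc (v i) (Pi.single i (1, 0)) := by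
  funext j
  rw [Finset.sum_apply, Finset.sum_eq_single j]
  · show v j = fmul (v j) (Pi.single (M := fun _ => D4) j (1, 0) j)
    rw [Pi.single_eq_same, (fmul_facts _ _ 0).1, (fmul_units _).1]
  · intro i _ hij
    show fmul (v i) (Pi.single (M := fun _ => D4) i (1, 0) j) = 0
    rw [Pi.single_eq_of_ne (Ne.symm hij), (fmul_facts _ _ 0).1, (fmul_units _).2.2.1]
  · simp

/-- A linear map fixing the base is trivial. -/
theorem eq_one_of_fix {g : V6 ≃ₗ[ZMod 2] V6} (hg : Lin g) (h : ∀ j < 6, g (pre j) = pre j) : g = 1 := by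
  have he : ∀ i : Fin 6, g (Pi.single i (1, 0)) = Pi.single i (1, 0) := fun i => by
    rw [← units_ok i, combo]
    simp only [map_add, hg.sc, h 0 (by omega), h 1 (by omega), h 2 (by omega), h 3 (by omega), h 4 (by omega),
      h 5 (by omega)]
  refine LinearEquiv.ext fun v => ?_
  show g v = v
  conv_lhs => rw [sum_units v]
  rw [map_sum]
  simp only [hg.sc, he]
  exact (sum_units v).symm

/-- Each point of a level is reached. -/
theorem reach {i : ℕ} (hi : i < 6) : ∀ n ∈ children i, ∃ w ∈ GT i, w (pre i) = dec n := by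
  have hok := List.all_eq_true.1 level_ok i (List.mem_range.2 hi)
  set L := levels.getD i [] with hL
  have hget : ∀ k, k < L.length → (children i).getD k 0 = (L.getD k (0, 0, 0)).1 := fun k hk => by
    unfold children
    rw [← hL, List.getD_eq_getElem _ _ (by simpa using hk), List.getD_eq_getElem _ _ hk, List.getElem_map]
  have key : ∀ k, k < L.length → ∃ w ∈ GT i, w (pre i) = dec ((children i).getD k 0) := by
    intro k
    induction k using Nat.strong_induction_on with
    | _ k ih =>
      intro hk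
      have he := List.all_eq_true.1 hok ((L.getD k (0, 0, 0)), k) (by
        rw [List.mem_zipIdx_iff_getElem?, List.getD_eq_getElem _ _ hk]
        exact List.getElem?_eq_getElem hk)
      simp only [Bool.and_eq_true, decide_eq_true_eq] at he
      obtain ⟨-, he⟩ := he
      by_cases h0 : k = 0
      · rw [if_pos h0] at he
        refine ⟨1, one_mem _, ?_⟩
        rw [hget k hk, eq_of_beq he]
        exact (preCodes_ok i hi).1
      · rw [if_neg h0] at he
        simp only [Bool.and_eq_true, decide_eq_true_eq, List.all_eq_true, List.mem_range, beq_iff_eq] at he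
        obtain ⟨⟨⟨hp, ht⟩, hfix⟩, hc⟩ := he
        obtain ⟨w, hw, hwv⟩ := ih _ hp (by omega)
        refine ⟨tv (dec (L.getD k (0, 0, 0)).2.2) * w, mul_mem (Subgroup.subset_closure ⟨_, ht, hfix, rfl⟩) hw, ?_⟩
        show tv _ (w (pre i)) = _
        rw [hwv, tv_apply (herm_of_inOb ht), hget k hk, ← hc, dec_code]
  intro n hn
  obtain ⟨k, hk, rfl⟩ := List.getElem_of_mem hn
  have hlen : (children i).length = L.length := by unfold children; rw [List.length_map]
  obtain ⟨w, hw, e⟩ := key k (hlen ▸ hk)
  exact ⟨w, hw, by rw [e, List.getD_eq_getElem _ _ hk]⟩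

/-- The image of a base vector is admissible. -/
theorem cand_image {i : ℕ} (hi : i < 6) {g : V6 ≃ₗ[ZMod 2] V6} (hg : g ∈ Fx i) : code (g (pre i)) ∈ children i := by
  obtain ⟨⟨hl, hq, hO⟩, hfix⟩ := hg
  have hbase : inOb (g (pre i)) = true ∧
      (List.range i).all (fun j => herm (g (pre i)) (pre j) == herm (pre i) (pre j)) = true := by
    refine ⟨(hO _).trans (preCodes_ok i hi).2.1, List.all_eq_true.2 fun j hj => beq_iff_eq.2 ?_⟩
    have e := hl.herm hq (pre i) (pre j)
    rwa [hfix j (List.mem_range.1 hj)] at e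
  have h1 : i = 1 → inOb (g (pre 1) + pre 0) = false ∧ inOb (g (pre 1) + sc (0, 1) (pre 0)) = false := fun e => by
    have e0 : g (pre 0) = pre 0 := hfix 0 (by omega)
    constructor
    · have e1 : g (pre 1) + pre 0 = g (pre 1 + pre 0) := by rw [map_add, e0]
      rw [e1, hO]; decide +kernel
    · have e1 : g (pre 1) + sc (0, 1) (pre 0) = g (pre 1 + sc (0, 1) (pre 0)) := by rw [map_add, hl.sc, e0]
      rw [e1, hO]; decide +kernel
  have h4 : i = 4 → inOb (g (pre 4) + pre 0 + pre 2 + sc (0, 1) (pre 3)) = true := fun e => by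
    have e1 : g (pre 4) + pre 0 + pre 2 + sc (0, 1) (pre 3) = g (pre 4 + pre 0 + pre 2 + sc (0, 1) (pre 3)) := by
      rw [map_add, map_add, map_add, hl.sc, hfix 0 (by omega), hfix 2 (by omega), hfix 3 (by omega)]
    rw [e1, hO]; decide +kernel
  have hc : cand i (g (pre i)) = true := by
    unfold cand
    rw [hbase.1, hbase.2]
    interval_cases i <;> simp [h1, h4]
  have h := List.all_eq_true.1 (List.all_eq_true.1 level_complete i (List.mem_range.2 hi)) (code (g (pre i)))
    (List.mem_range.2 (code_lt _))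
  rw [dec_code, hc] at h
  simpa using h

section
variable (hT : ∀ t, inOb t = true → tv t ∈ AL)
include hT

theorem GT_le (i : ℕ) : GT i ≤ Fx i := by
  refine (Subgroup.closure_le _).2 ?_
  rintro _ ⟨t, ht, hfix, rfl⟩
  exact ⟨hT t ht, fun j hj => by rw [tv_apply (herm_of_inOb ht), tvFun, hfix j hj, sc_zero, add_zero]⟩

theorem Fx_le : ∀ m i, m + i = 6 → Fx i ≤ GT i := by
  intro m
  induction m with
  | zero =>
    intro i hi g hg
    rw [show g = 1 from eq_one_of_fix hg.1.1 fun j hj => hg.2 j (by omega)]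
    exact one_mem _
  | succ m ih =>
    intro i hi g hg
    obtain ⟨w, hw, hwv⟩ := reach (i := i) (by omega) _ (cand_image (by omega) hg)
    rw [dec_code] at hwv
    have hwF := GT_le hT i hw
    have h1 : w⁻¹ * g ∈ Fx (i + 1) := by
      refine ⟨mul_mem (inv_mem hwF.1) hg.1, fun j hj => ?_⟩
      rcases Nat.lt_succ_iff_lt_or_eq.1 hj with hj | rfl
      · exact (mul_mem (inv_mem hwF) hg).2 j hj
      · show w.symm (g (pre j)) = pre j
        rw [← hwv, w.symm_apply_apply]
    have hsub : GT (i + 1) ≤ GT i := Subgroup.closure_mono fun x ⟨t, ht, hfix, e⟩ =>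
      ⟨t, ht, fun j hj => hfix j (by omega), e⟩
    have := mul_mem hw (hsub (ih (i + 1) (by omega) h1))
    rwa [mul_inv_cancel_left] at this

theorem Fx_eq {i : ℕ} (hi : i ≤ 6) : Fx i = GT i := le_antisymm (Fx_le hT (6 - i) i (by omega)) (GT_le hT i)

theorem card_Fx {i : ℕ} (hi : i < 6) :
    Nat.card (Fx i) = [378, 135, 32, 6, 1, 2].getD i 0 * Nat.card (Fx (i + 1)) := by
  classical
  set f : ↥(Fx i) → V6 := fun g => (g : V6 ≃ₗ[ZMod 2] V6) (pre i) with hf
  have hfin : Finite (V6 ≃ₗ[ZMod 2] V6) := Finite.of_injective _ DFunLike.coe_injective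
  have hrange : Set.range f = ↑((children i).map dec).toFinset := by
    ext x
    simp only [Set.mem_range, Finset.mem_coe, List.mem_toFinset, List.mem_map]
    constructor
    · rintro ⟨g, rfl⟩; exact ⟨_, cand_image hi g.2, dec_code _⟩
    · rintro ⟨n, hn, rfl⟩
      obtain ⟨w, hw, e⟩ := reach hi n hn
      exact ⟨⟨w, GT_le hT i hw⟩, e⟩
  letI : MulAction ↥(Fx i) V6 :=
    { smul := fun g v => (g : V6 ≃ₗ[ZMod 2] V6) v, one_smul := fun _ => rfl, mul_smul := fun _ _ _ => rfl }
  have horb : MulAction.orbit ↥(Fx i) (pre i) = Set.range f := rfl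
  have hst : MulAction.stabilizer ↥(Fx i) (pre i) = (Fx (i + 1)).subgroupOf (Fx i) := by
    ext g
    rw [Subgroup.mem_subgroupOf, MulAction.mem_stabilizer_iff]
    constructor
    · intro e
      refine ⟨g.2.1, fun j hj => ?_⟩
      rcases Nat.lt_succ_iff_lt_or_eq.1 hj with hj | rfl
      · exact g.2.2 j hj
      · exact e
    · intro e; exact e.2 i (Nat.lt_succ_self i)
  have h := (MulAction.stabilizer ↥(Fx i) (pre i)).card_mul_index
  have hle : Fx (i + 1) ≤ Fx i := fun g hg => ⟨hg.1, fun j hj => hg.2 j (by omega)⟩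
  rw [MulAction.index_stabilizer, horb, hrange, hst, Nat.card_congr (Subgroup.subgroupOfEquivOfLe hle).toEquiv,
    Set.ncard_coe_finset] at h
  rw [← h, mul_comm, List.toFinset_card_of_nodup, List.length_map, level_len i hi]
  refine (level_nodup i hi).map_on fun a ha b hb e => ?_
  have hlt : ∀ i < 6, ∀ n ∈ children i, code (dec n) = n := by decide +kernel
  rw [← hlt i hi a ha, ← hlt i hi b hb, e]

theorem card_Fx_one : Nat.card (Fx 1) = 51840 := by
  have h6 : Nat.card (Fx 6) = 1 := by
    have : Fx 6 = ⊥ := (Subgroup.eq_bot_iff_forall _).2 fun g hg => eq_one_of_fix hg.1.1 fun j hj => hg.2 j hj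
    rw [this, Subgroup.card_bot]
  rw [card_Fx hT (i := 1) (by omega), card_Fx hT (i := 2) (by omega), card_Fx hT (i := 3) (by omega),
    card_Fx hT (i := 4) (by omega), card_Fx hT (i := 5) (by omega), h6]
  rfl

theorem card_AL : Nat.card AL = 19595520 := by
  have h0 : Fx 0 = AL := le_antisymm (fun g hg => hg.1) fun g hg => ⟨hg, fun j hj => absurd hj (Nat.not_lt_zero j)⟩
  rw [← h0, card_Fx hT (i := 0) (by omega), card_Fx_one hT]
  rfl

end

end CfsgLib.Sporadic.LargeFischer.Explicit
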