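import Cfsg.Agent.Lib.Sporadic.LargeFischer.Explicit.Shape
import Cfsg.Agent.Lib.Sporadic.LargeFischer.Explicit.ClosureData

/-!
# Singular subgroups at `c4` invariant under its stabiliser contain `omV c4`
-/

set_option autoImplicit false
set_option linter.unusedSectionVars false
set_option maxRecDepth 100000

namespace CfsgLib.Sporadic.LargeFischer.Explicit

/-- The image under one of the pairs. -/
def pairImg (i : ℕ) (v : V6) : V6 :=
  tvFun (dec (pairCodes.getD i (0, 0)).1) (tvFun (dec (pairCodes.getD i (0, 0)).2) v)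

/-- The correctness of a row. -/
def rowOk (e : (ℕ × ℕ × ℕ × ℕ) × ℕ) : Bool :=
  let v := dec e.1.1
  let i := e.1.2.2.1
  let p := e.1.2.2.2
  let earlier := (closureRows.getD p (0, 0, 0, 0)).1
  e.1.1 < 4096 && i < 4 &&
    match e.1.2.1 with
    | 0 => qs (v + pairImg i v) == 1
    | 1 => p < e.2 && code (v + pairImg i v) == earlier
    | 2 => p < e.2 && code (pairImg i v) == earlier
    | 3 => p < e.2 && code (v + c4) == earlier
    | 4 => v + pairImg 0 v + pairImg 3 (pairImg 0 v) == omV c4
    | _ => v == omV c4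

theorem rows_ok : closureRows.zipIdx.all rowOk = true := by decide +kernel

theorem pairs_ok : ∀ i < 4, inOb (dec (pairCodes.getD i (0, 0)).1) = true ∧
    inOb (dec (pairCodes.getD i (0, 0)).2) = true ∧ herm c4 (dec (pairCodes.getD i (0, 0)).1) = 0 ∧
    herm c4 (dec (pairCodes.getD i (0, 0)).2) = 0 := by decide +kernel

theorem mask_eq : (closureRows.map (·.1)).foldr (fun n m => m ||| 2 ^ n) 0 = closureMask := by decide +kernel

theorem mask_complete : (List.range 4096).all (fun n =>
    !(qs (dec n) == 0) || !(qs (dec n + c4) == 0) || n == 0 || n == code c4 || closureMask.testBit n) = true := by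
  decide +kernel

theorem mem_of_testBit : ∀ (L : List ℕ) (n : ℕ), (L.foldr (fun n m => m ||| 2 ^ n) 0).testBit n = true → n ∈ L
  | [], n, h => by simp at h
  | a :: L, n, h => by
    rw [List.foldr_cons, Nat.testBit_or, Bool.or_eq_true, Nat.testBit_two_pow] at h
    rcases h with h | h
    · exact List.mem_cons_of_mem _ (mem_of_testBit L n h)
    · exact List.mem_cons.2 (Or.inl (by simpa [eq_comm] using h))

/-- A totally singular subgroup at `c4` with at least three elements, invariant under the stabiliser of `c4`,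
contains `omV c4`. -/
theorem Std.omV_mem {K : Subgroup (V6 ≃ₗ[ZMod 2] V6)} (h : Std K) (R : AddSubgroup V6)
    (hq : ∀ w ∈ R, qs w = 0) (hc : c4 ∈ R) (hR : ∀ g ∈ K, g c4 = c4 → ∀ w ∈ R, g w ∈ R)
    (hbig : ∃ v ∈ R, v ≠ 0 ∧ v ≠ c4) : omV c4 ∈ R := by
  have himg : ∀ i < 4, ∀ w ∈ R, pairImg i w ∈ R := by
    intro i hi w hw
    obtain ⟨ha, hb, ha4, hb4⟩ := pairs_ok i hi
    have e : ∀ x, (tv (dec (pairCodes.getD i (0, 0)).1) * tv (dec (pairCodes.getD i (0, 0)).2)) x = pairImg i x :=
      fun x => by rw [LinearEquiv.mul_apply, tv_apply (herm_of_inOb ha), tv_apply (herm_of_inOb hb)]; rfl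
    rw [← e]
    refine hR _ (h.tv_mul_mem ha hb) ?_ w hw
    rw [e, pairImg, show tvFun (dec (pairCodes.getD i (0, 0)).2) c4 = c4 by rw [tvFun, hb4, sc_zero, add_zero],
      tvFun, ha4, sc_zero, add_zero]
  have key : ∀ k, k < closureRows.length → dec (closureRows.getD k (0, 0, 0, 0)).1 ∈ R → omV c4 ∈ R := by
    intro k
    induction k using Nat.strong_induction_on with
    | _ k ih =>
      intro hk hv
      have he := List.all_eq_true.1 rows_ok ((closureRows.getD k (0, 0, 0, 0)), k) (by
        rw [List.mem_zipIdx_iff_getElem?, List.getD_eq_getElem _ _ hk]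
        exact List.getElem?_eq_getElem hk)
      simp only [rowOk, Bool.and_eq_true, decide_eq_true_eq] at he
      obtain ⟨⟨-, hi⟩, he⟩ := he
      set r := closureRows.getD k (0, 0, 0, 0) with hr
      split at he
      · exfalso
        rw [hq _ (add_mem hv (himg _ hi _ hv))] at he
        exact absurd (beq_iff_eq.1 he) (by decide)
      · simp only [Bool.and_eq_true, decide_eq_true_eq, beq_iff_eq] at he
        exact ih _ he.1 (by omega) (by rw [← he.2, dec_code]; exact add_mem hv (himg _ hi _ hv))
      · simp only [Bool.and_eq_true, decide_eq_true_eq, beq_iff_eq] at he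
        exact ih _ he.1 (by omega) (by rw [← he.2, dec_code]; exact himg _ hi _ hv)
      · simp only [Bool.and_eq_true, decide_eq_true_eq, beq_iff_eq] at he
        exact ih _ he.1 (by omega) (by rw [← he.2, dec_code]; exact add_mem hv hc)
      · rw [← beq_iff_eq.1 he]
        exact add_mem (add_mem hv (himg 0 (by omega) _ hv)) (himg 3 (by omega) _ (himg 0 (by omega) _ hv))
      · rw [← beq_iff_eq.1 he]; exact hv
  obtain ⟨v, hv, hv0, hv4⟩ := hbig
  have hm := List.all_eq_true.1 mask_complete (code v) (List.mem_range.2 (code_lt v))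
  rw [dec_code, hq v hv, hq _ (add_mem hv hc)] at hm
  have h0 : (code v == 0) = false := beq_eq_false_iff_ne.2 fun e => hv0 (code_injective (e.trans (by decide : 0 = code 0)))
  have h4 : (code v == code c4) = false := beq_eq_false_iff_ne.2 fun e => hv4 (code_injective e)
  rw [h0, h4] at hm
  simp only [beq_self_eq_true, Bool.not_true, Bool.false_or] at hm
  rw [← mask_eq] at hm
  obtain ⟨k, hk, hke⟩ := List.getElem_of_mem (mem_of_testBit _ _ hm)
  rw [List.length_map] at hk
  refine key k hk ?_
  rw [List.getD_eq_getElem _ _ hk]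
  rw [List.getElem_map] at hke
  rw [hke, dec_code]
  exact hv

end CfsgLib.Sporadic.LargeFischer.Explicit
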