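import Cfsg.Agent.Lib.Sporadic.LargeFischer.Explicit.Chain

/-!
# Additive maps of `V6` by the images of twelve basis vectors
-/

set_option autoImplicit false
set_option linter.unusedSectionVars false
set_option maxRecDepth 100000

namespace CfsgLib.Sporadic.LargeFischer.Explicit

theorem dec_xor (a b : ℕ) : dec (a ^^^ b) = dec a + dec b := by
  have key : ∀ p q : Bool, bit (p ^^ q) = bit p + bit q := by decide
  funext i
  refine Prod.ext ?_ ?_
  · show bit ((a ^^^ b).testBit _) = bit (a.testBit _) + bit (b.testBit _)
    rw [Nat.testBit_xor, key]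
  · show bit ((a ^^^ b).testBit _) = bit (a.testBit _) + bit (b.testBit _)
    rw [Nat.testBit_xor, key]

theorem dec_zero : dec 0 = 0 := funext fun i => by
  show (bit ((0 : ℕ).testBit _), bit ((0 : ℕ).testBit _)) = 0
  rw [Nat.zero_testBit, Nat.zero_testBit]; rfl

/-- The images of the twelve basis vectors. -/
def cols (g : V6 ≃ₗ[ZMod 2] V6) : List ℕ := (List.range 12).map fun b => code (g (dec (2 ^ b)))

/-- Evaluation of a list of images. -/
def apN (L : List ℕ) (n : ℕ) : ℕ :=
  (List.range 12).foldl (fun acc b => if n.testBit b then acc ^^^ L.getD b 0 else acc) 0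

/-- Composition. -/
def colsComp (L M : List ℕ) : List ℕ := M.map (apN L)

/-- The identity. -/
def colsOne : List ℕ := (List.range 12).map fun b => 2 ^ b

theorem split_bits (n : ℕ) : ∀ k,
    n % 2 ^ k = (List.range k).foldl (fun acc b => if n.testBit b then acc ^^^ 2 ^ b else acc) 0
  | 0 => by simp [Nat.mod_one]
  | k + 1 => by
    rw [List.range_succ, List.foldl_concat, ← split_bits n k]
    refine Nat.eq_of_testBit_eq fun i => ?_
    split_ifs with hk
    · rw [Nat.testBit_xor, Nat.testBit_mod_two_pow, Nat.testBit_mod_two_pow, Nat.testBit_two_pow]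
      rcases lt_trichotomy i k with e | rfl | e
      · simp [e, show i < k + 1 by omega, show k ≠ i by omega]
      · simp [hk]
      · simp [show ¬ i < k + 1 by omega, show ¬ i < k by omega, show k ≠ i by omega]
    · rw [Nat.testBit_mod_two_pow, Nat.testBit_mod_two_pow]
      rcases lt_trichotomy i k with e | rfl | e
      · simp [e, show i < k + 1 by omega]
      · simp [Bool.eq_false_iff.2 hk]
      · simp [show ¬ i < k + 1 by omega, show ¬ i < k by omega]

theorem apply_eq (g : V6 ≃ₗ[ZMod 2] V6) {n : ℕ} (hn : n < 4096) : g (dec n) = dec (apN (cols g) n) := by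
  have key : ∀ (l : List ℕ), (∀ b ∈ l, b < 12) → ∀ a a' : ℕ, g (dec a) = dec a' →
      g (dec (l.foldl (fun acc b => if n.testBit b then acc ^^^ 2 ^ b else acc) a)) =
        dec (l.foldl (fun acc b => if n.testBit b then acc ^^^ (cols g).getD b 0 else acc) a') := by
    intro l
    induction l with
    | nil => exact fun _ a a' e => e
    | cons b l ih =>
      intro hl a a' e
      rw [List.foldl_cons, List.foldl_cons]
      refine ih (fun c hc => hl c (List.mem_cons_of_mem _ hc)) _ _ ?_
      split_ifs with hb
      · rw [dec_xor, dec_xor, map_add, e]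
        congr 1
        have hb12 : b < 12 := hl b List.mem_cons_self
        unfold cols
        rw [List.getD_eq_getElem _ _ (by simpa using hb12), List.getElem_map, List.getElem_range, dec_code]
      · exact e
  have h := key (List.range 12) (fun b hb => List.mem_range.1 hb) 0 0 (by rw [dec_zero, map_zero])
  rwa [← split_bits n 12, Nat.mod_eq_of_lt (show n < 2 ^ 12 by omega)] at h

theorem apply_code (g : V6 ≃ₗ[ZMod 2] V6) (v : V6) : g v = dec (apN (cols g) (code v)) := by
  conv_lhs => rw [← dec_code v]
  exact apply_eq g (code_lt v)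

theorem cols_injective : Function.Injective cols := fun g k h => LinearEquiv.ext fun v => by
  rw [apply_code g v, apply_code k v, h]

theorem code_dec {n : ℕ} (hn : n < 4096) : code (dec n) = n := by
  have h : (List.range 4096).all (fun n => code (dec n) == n) = true := by decide +kernel
  exact beq_iff_eq.1 (List.all_eq_true.1 h n (List.mem_range.2 hn))

theorem apN_lt {L : List ℕ} (hL : ∀ x ∈ L, x < 4096) (n : ℕ) : apN L n < 4096 := by
  have key : ∀ (l : List ℕ) (a : ℕ), a < 4096 →
      l.foldl (fun acc b => if n.testBit b then acc ^^^ L.getD b 0 else acc) a < 4096 := by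
    intro l
    induction l with
    | nil => exact fun a ha => ha
    | cons b l ih =>
      intro a ha
      rw [List.foldl_cons]
      refine ih _ ?_
      split_ifs
      · refine Nat.xor_lt_two_pow (n := 12) ha ?_
        by_cases hb : b < L.length
        · rw [List.getD_eq_getElem _ _ hb]; exact hL _ (List.getElem_mem _)
        · rw [List.getD_eq_default _ _ (not_lt.1 hb)]; norm_num
      · exact ha
  exact key _ 0 (by norm_num)

theorem cols_lt (g : V6 ≃ₗ[ZMod 2] V6) : ∀ x ∈ cols g, x < 4096 := by
  intro x hx
  obtain ⟨b, -, rfl⟩ := List.mem_map.1 hx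
  exact code_lt _

theorem code_apply (g : V6 ≃ₗ[ZMod 2] V6) (v : V6) : code (g v) = apN (cols g) (code v) := by
  rw [apply_code g v, code_dec (apN_lt (cols_lt g) _)]

theorem cols_mul (g k : V6 ≃ₗ[ZMod 2] V6) : cols (g * k) = colsComp (cols g) (cols k) := by
  show (List.range 12).map (fun b => code ((g * k) (dec (2 ^ b)))) =
    ((List.range 12).map fun b => code (k (dec (2 ^ b)))).map (apN (cols g))
  rw [List.map_map]
  exact List.map_congr_left fun b _ => code_apply g (k (dec (2 ^ b)))

theorem cols_one : cols 1 = colsOne := by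
  unfold cols colsOne
  refine List.map_congr_left fun b hb => ?_
  refine code_dec ?_
  have := Nat.pow_lt_pow_right (show 1 < 2 by norm_num) (List.mem_range.1 hb)
  omega

/-- The images of the basis under a product of two transvections. -/
def pairCols (p : ℕ × ℕ) : List ℕ :=
  (List.range 12).map fun b => code (tvFun (dec p.1) (tvFun (dec p.2) (dec (2 ^ b))))

/-- The product of two transvections. -/
noncomputable def pairMap (p : ℕ × ℕ) : V6 ≃ₗ[ZMod 2] V6 := tv (dec p.1) * tv (dec p.2)

theorem cols_pairMap {p : ℕ × ℕ} (h1 : inOb (dec p.1) = true) (h2 : inOb (dec p.2) = true) :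
    cols (pairMap p) = pairCols p :=
  List.map_congr_left fun b _ => by
    rw [pairMap, LinearEquiv.mul_apply, tv_apply (herm_of_inOb h1), tv_apply (herm_of_inOb h2)]

end CfsgLib.Sporadic.LargeFischer.Explicit
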