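import Cfsg.Agent.Lib.Sporadic.LargeFischer.OrbitSizes

/-!
# The field with four elements, the Hermitian form and the transvections on `V6`
-/

set_option autoImplicit false
set_option linter.unusedSectionVars false

namespace CfsgLib.Sporadic.LargeFischer.Explicit

/-- The product in the field with four elements, `(1,0)` being the unit and `(0,1)` a primitive cube root of unity. -/
def fmul (a b : D4) : D4 := (a.1 * b.1 + a.2 * b.2, a.1 * b.2 + a.2 * b.1 + a.2 * b.2)

/-- The field automorphism. -/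
def fro (a : D4) : D4 := (a.1 + a.2, a.2)

/-- The scalar action on `V6`. -/
def sc (c : D4) (v : V6) : V6 := fun i => fmul c (v i)

/-- The Hermitian form. -/
def herm (u v : V6) : D4 :=
  fmul (u 0) (fro (v 0)) + fmul (u 1) (fro (v 1)) + fmul (u 2) (fro (v 2)) + fmul (u 3) (fro (v 3)) +
    fmul (u 4) (fro (v 4)) + fmul (u 5) (fro (v 5))

theorem herm_eq_sum (u v : V6) : herm u v = ∑ i, fmul (u i) (fro (v i)) := by
  simp only [herm, Fin.sum_univ_succ, Finset.univ_unique, Fin.default_eq_zero, Finset.sum_singleton]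
  simp [add_assoc]

theorem fmul_facts : ∀ a b c : D4, fmul a b = fmul b a ∧ fmul (fmul a b) c = fmul a (fmul b c) ∧
    fmul a (b + c) = fmul a b + fmul a c ∧ fmul (a + b) c = fmul a c + fmul b c ∧
    fro (fmul a b) = fmul (fro a) (fro b) ∧ fro (a + b) = fro a + fro b := by decide

theorem fmul_units : ∀ a : D4, fmul (1, 0) a = a ∧ fmul (0, 1) a = om a ∧ fmul 0 a = 0 ∧
    fro (fro a) = a ∧ fmul a (fro a) = fmul (nzd a, 0) (1, 0) ∧ (fro a = 0 → a = 0) := by decide

theorem D4_cases : ∀ c : D4, c = 0 ∨ c = (1, 0) ∨ c = (0, 1) ∨ c = (1, 1) := by decide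

theorem omV_eq (v : V6) : omV v = sc (0, 1) v := funext fun i => ((fmul_units (v i)).2.1).symm

theorem sc_one (v : V6) : sc (1, 0) v = v := funext fun i => (fmul_units (v i)).1

theorem sc_zero (v : V6) : sc 0 v = 0 := funext fun i => (fmul_units (v i)).2.2.1

theorem sc_add (c : D4) (u v : V6) : sc c (u + v) = sc c u + sc c v :=
  funext fun i => (fmul_facts c (u i) (v i)).2.2.1

theorem add_sc (a b : D4) (v : V6) : sc (a + b) v = sc a v + sc b v :=
  funext fun i => (fmul_facts a b (v i)).2.2.2.1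

theorem sc_sc (a b : D4) (v : V6) : sc a (sc b v) = sc (fmul a b) v :=
  funext fun i => ((fmul_facts a b (v i)).2.1).symm

theorem sc_zero_right (c : D4) : sc c 0 = 0 := funext fun i => by
  show fmul c 0 = 0
  revert c; decide

theorem sc_ww (v : V6) : sc (1, 1) v = omV (omV v) := by
  rw [omV_eq, omV_eq, sc_sc]; congr 1

theorem herm_add_left (u v w : V6) : herm (u + v) w = herm u w + herm v w := by
  simp only [herm_eq_sum, ← Finset.sum_add_distrib]
  exact Finset.sum_congr rfl fun i _ => (fmul_facts (u i) (v i) (fro (w i))).2.2.2.1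

theorem herm_sc_left (c : D4) (u w : V6) : herm (sc c u) w = fmul c (herm u w) := by
  rw [herm_eq_sum, herm_eq_sum]
  refine Eq.trans ?_ (map_sum (AddMonoidHom.mk' (fmul c) fun a b => (fmul_facts c a b).2.2.1) _ _).symm
  exact Finset.sum_congr rfl fun i _ => (fmul_facts c (u i) (fro (w i))).2.1

theorem herm_symm (u v : V6) : herm u v = fro (herm v u) := by
  rw [herm_eq_sum, herm_eq_sum]
  refine Eq.trans ?_ (map_sum (AddMonoidHom.mk' fro fun a b => (fmul_facts a b 0).2.2.2.2.2) _ _).symm
  refine Finset.sum_congr rfl fun i _ => ?_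
  show _ = fro (fmul (v i) (fro (u i)))
  rw [(fmul_facts (v i) (fro (u i)) 0).2.2.2.2.1, (fmul_units (u i)).2.2.2.1]
  exact (fmul_facts _ _ 0).1

theorem herm_self (v : V6) : herm v v = (qs v, 0) := by
  have key : ∀ d : D4, (fmul d (fro d)).1 = nzd d ∧ (fmul d (fro d)).2 = 0 := by decide
  rw [herm_eq_sum]
  refine Prod.ext ?_ ?_
  · show (∑ i, fmul (v i) (fro (v i))).1 = qs v
    rw [Prod.fst_sum, qs]
    exact Finset.sum_congr rfl fun i _ => (key (v i)).1
  · show (∑ i, fmul (v i) (fro (v i))).2 = 0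
    rw [Prod.snd_sum]
    exact Finset.sum_eq_zero fun i _ => (key (v i)).2

theorem bs_eq (u v : V6) : bs u v = (herm u v).2 := by
  rw [herm_eq_sum, Prod.snd_sum]
  simp only [bs, qs, ← Finset.sum_add_distrib]
  refine Finset.sum_congr rfl fun i _ => ?_
  show nzd (u i + v i) + nzd (u i) + nzd (v i) = _
  generalize u i = a; generalize v i = b
  revert a b; decide

theorem herm_zero_left (w : V6) : herm 0 w = 0 := by
  have := herm_sc_left 0 w w
  rwa [sc_zero, (fmul_units _).2.2.1] at this

/-- The transvection at a vector. -/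
def tvFun (t v : V6) : V6 := v + sc (herm v t) t

theorem tvFun_add (t u v : V6) : tvFun t (u + v) = tvFun t u + tvFun t v := by
  simp only [tvFun, herm_add_left, add_sc]; abel

theorem tvFun_tvFun {t : V6} (h : herm t t = 0) (v : V6) : tvFun t (tvFun t v) = v := by
  simp only [tvFun, herm_add_left, herm_sc_left, h]
  rw [show fmul (herm v t) 0 = 0 by rw [(fmul_facts _ _ 0).1]; exact (fmul_units _).2.2.1, add_zero, add_assoc]
  exact add_eq_left.2 (funext fun i => CharTwo.add_self_eq_zero _)

open scoped Classical in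
/-- The transvection at an isotropic vector, the identity at the others. -/
noncomputable def tv (t : V6) : V6 ≃ₗ[ZMod 2] V6 :=
  if h : herm t t = 0 then
    { toFun := tvFun t
      invFun := tvFun t
      map_add' := tvFun_add t
      map_smul' := fun c v => by
        rcases (by decide : ∀ c : ZMod 2, c = 0 ∨ c = 1) c with rfl | rfl
        · simp only [zero_smul, RingHom.id_apply, tvFun, herm_zero_left, sc_zero, add_zero]
        · simp only [one_smul, RingHom.id_apply]
      left_inv := tvFun_tvFun h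
      right_inv := tvFun_tvFun h }
  else 1

theorem tv_apply {t : V6} (h : herm t t = 0) (v : V6) : tv t v = tvFun t v := by
  rw [tv, dif_pos h]; rfl

/-- The field automorphism on `V6`. -/
def frV : V6 ≃ₗ[ZMod 2] V6 where
  toFun v i := fro (v i)
  invFun v i := fro (v i)
  map_add' u v := funext fun i => (fmul_facts (u i) (v i) 0).2.2.2.2.2
  map_smul' c v := funext fun i => by
    rcases (by decide : ∀ c : ZMod 2, c = 0 ∨ c = 1) c with rfl | rfl
    · simp only [zero_smul, RingHom.id_apply, Pi.zero_apply]; decide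
    · simp only [one_smul, RingHom.id_apply]
  left_inv v := funext fun i => (fmul_units (v i)).2.2.2.1
  right_inv v := funext fun i => (fmul_units (v i)).2.2.2.1

theorem frV_apply (v : V6) (i : Fin 6) : frV v i = fro (v i) := rfl

theorem qs_frV (v : V6) : qs (frV v) = qs v := Finset.sum_congr rfl fun i _ => by
  rw [frV_apply]; generalize v i = d; revert d; decide

theorem frV_sc (c : D4) (v : V6) : frV (sc c v) = sc (fro c) (frV v) :=
  funext fun i => (fmul_facts c (v i) 0).2.2.2.2.1

/-- Commuting with the scalar of order three. -/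
def Lin (g : V6 ≃ₗ[ZMod 2] V6) : Prop := ∀ v, g (omV v) = omV (g v)

/-- Anticommuting with the scalar of order three. -/
def Anti (g : V6 ≃ₗ[ZMod 2] V6) : Prop := ∀ v, g (omV v) = omV (omV (g v))

theorem omV_cube (v : V6) : omV (omV (omV v)) = v := funext fun i => (omV_om (v i)).2.1

theorem not_lin_of_anti {g : V6 ≃ₗ[ZMod 2] V6} (h : Anti g) : ¬ Lin g := fun hl => by
  have e := (hl (fun _ => (1, 0))).symm.trans (h _)
  have h2 : omV (g fun _ => (1, 0)) = g (fun _ => (1, 0)) := by
    have := congrArg (fun x => omV (omV x)) e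
    simp only [omV_cube] at this
    exact this.symm
  have h3 : g (fun _ => (1, 0)) = 0 := funext fun i => (omV_om _).2.2 (congrFun h2 i)
  exact absurd (congrFun (g.map_eq_zero_iff.1 h3) 0) (by decide)

theorem Lin.one : Lin 1 := fun _ => rfl

theorem Lin.mul {g k : V6 ≃ₗ[ZMod 2] V6} (hg : Lin g) (hk : Lin k) : Lin (g * k) := fun v => by
  show g (k (omV v)) = _
  rw [hk, hg]; rfl

theorem Lin.inv {g : V6 ≃ₗ[ZMod 2] V6} (hg : Lin g) : Lin g⁻¹ := fun v => g.injective (by
  show g (g.symm _) = g (omV (g.symm v))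
  rw [hg, g.apply_symm_apply, g.apply_symm_apply])

theorem anti_frV : Anti frV := fun v => by rw [← sc_ww, omV_eq, frV_sc]; rfl

theorem Lin.sc {g : V6 ≃ₗ[ZMod 2] V6} (hg : Lin g) (c : D4) (v : V6) : g (sc c v) = Explicit.sc c (g v) := by
  rcases D4_cases c with rfl | rfl | rfl | rfl
  · rw [sc_zero, sc_zero, map_zero]
  · rw [sc_one, sc_one]
  · rw [← omV_eq, ← omV_eq, hg]
  · rw [sc_ww, sc_ww, hg, hg]

theorem Anti.sc {g : V6 ≃ₗ[ZMod 2] V6} (hg : Anti g) (c : D4) (v : V6) : g (sc c v) = Explicit.sc (fro c) (g v) := by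
  rcases D4_cases c with rfl | rfl | rfl | rfl
  · rw [sc_zero, show fro 0 = 0 from rfl, sc_zero, map_zero]
  · rw [sc_one, show fro (1, 0) = (1, 0) from rfl, sc_one]
  · rw [← omV_eq, hg, show fro (0, 1) = (1, 1) from rfl, sc_ww]
  · rw [sc_ww, hg, hg, omV_cube, omV_eq]; rfl

theorem bs_preserved {g : V6 ≃ₗ[ZMod 2] V6} (hq : ∀ v, qs (g v) = qs v) (u v : V6) : bs (g u) (g v) = bs u v := by
  show qs (g u + g v) + qs (g u) + qs (g v) = _
  rw [← map_add, hq, hq, hq]; rfl

theorem tr_eq : ∀ a b : D4, a.2 = b.2 → (fmul (0, 1) a).2 = (fmul (0, 1) b).2 → a = b := by decide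

theorem Lin.herm {g : V6 ≃ₗ[ZMod 2] V6} (hg : Lin g) (hq : ∀ v, qs (g v) = qs v) (u v : V6) :
    Explicit.herm (g u) (g v) = Explicit.herm u v := by
  refine tr_eq _ _ (by rw [← bs_eq, ← bs_eq, bs_preserved hq]) ?_
  rw [← herm_sc_left, ← herm_sc_left, ← hg.sc, ← bs_eq, ← bs_eq, bs_preserved hq]

theorem Anti.herm {g : V6 ≃ₗ[ZMod 2] V6} (hg : Anti g) (hq : ∀ v, qs (g v) = qs v) (u v : V6) :
    Explicit.herm (g u) (g v) = fro (Explicit.herm u v) := by
  have key : ∀ a b : D4, a.2 = b.2 → (fmul (1, 1) a).2 = (fmul (0, 1) b).2 → a = fro b := by decide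
  refine key _ _ (by rw [← bs_eq, ← bs_eq, bs_preserved hq]) ?_
  rw [← herm_sc_left, ← herm_sc_left, show ((1, 1) : D4) = fro (0, 1) from rfl, ← hg.sc, ← bs_eq, ← bs_eq,
    bs_preserved hq]

theorem tv_self {t : V6} (h : Explicit.herm t t = 0) : tv t t = t := by
  rw [tv_apply h, tvFun, h, sc_zero, add_zero]

theorem tv_inv (t : V6) : (tv t)⁻¹ = tv t := by
  refine inv_eq_of_mul_eq_one_left (LinearEquiv.ext fun v => ?_)
  by_cases h : Explicit.herm t t = 0
  · show tv t (tv t v) = v
    rw [tv_apply h, tv_apply h, tvFun_tvFun h]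
  · rw [tv, dif_neg h]; rfl

theorem lin_tv (t : V6) : Lin (tv t) := by
  intro v
  by_cases h : Explicit.herm t t = 0
  · rw [tv_apply h, tv_apply h, tvFun, tvFun, omV_eq, omV_eq, herm_sc_left, sc_add, sc_sc]
  · rw [tv, dif_neg h]; rfl

theorem qs_tv (t v : V6) : qs (tv t v) = qs v := by
  by_cases h : Explicit.herm t t = 0
  · have e : Explicit.herm (tvFun t v) (tvFun t v) = Explicit.herm v v := by
      rw [tvFun, herm_add_left, herm_sc_left, herm_symm v (v + _), herm_symm t (v + _)]
      rw [herm_add_left, herm_add_left, herm_sc_left, herm_sc_left, h, herm_symm t v, herm_self]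
      generalize Explicit.herm v t = a
      generalize qs v = b
      revert a b; decide
    rw [herm_self, herm_self] at e
    rw [tv_apply h]
    exact (Prod.mk.inj e).1
  · rw [tv, dif_neg h]; rfl

theorem conj_tv {g : V6 ≃ₗ[ZMod 2] V6} (hg : Lin g ∨ Anti g) (hq : ∀ v, qs (g v) = qs v) {t : V6}
    (h : Explicit.herm t t = 0) : g * tv t * g⁻¹ = tv (g t) := by
  have h' : Explicit.herm (g t) (g t) = 0 := by
    rw [herm_self, hq, ← herm_self, h]
  refine LinearEquiv.ext fun x => ?_
  show g (tv t (g.symm x)) = _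
  rw [tv_apply h, tv_apply h', tvFun, tvFun, map_add, g.apply_symm_apply]
  congr 1
  rcases hg with hg | hg
  · rw [hg.sc, ← hg.herm hq, g.apply_symm_apply]
  · rw [hg.sc, ← hg.herm hq, g.apply_symm_apply]

theorem tv_sc {c : D4} (hc : c ≠ 0) {t : V6} (h : Explicit.herm t t = 0) : tv (sc c t) = tv t := by
  have key : ∀ c a : D4, c ≠ 0 → fmul (fmul (fro c) a) c = a := by decide
  have h' : Explicit.herm (sc c t) (sc c t) = 0 := by
    rw [herm_sc_left, herm_symm, herm_sc_left, h]
    revert c; decide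
  refine LinearEquiv.ext fun x => ?_
  rw [tv_apply h, tv_apply h', tvFun, tvFun]
  congr 1
  rw [sc_sc, herm_symm x (sc c t), herm_sc_left, (fmul_facts c _ 0).2.2.2.2.1, ← herm_symm, key _ _ hc]

end CfsgLib.Sporadic.LargeFischer.Explicit
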