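import Cfsg.Agent.Lib.Sporadic.LargeFischer.Explicit.SixMinus
import Cfsg.Agent.Lib.Sporadic.LargeFischer.Explicit.Semilinear

/-!
# The stabiliser of a non-central involution of `Q` not conjugate to `z`
-/

set_option autoImplicit false
set_option linter.unusedSectionVars false

namespace CfsgLib.Sporadic.LargeFischer.LF

variable {G : Type*} [Group G] [Finite G] {z : G} {Q : Subgroup G} {π : G → V6}
  {ψ : ↥(Subgroup.centralizer ({z} : Set G)) →* (V6 ≃ₗ[ZMod 2] V6)} (h : LF z Q π ψ)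
include h

/-- An involution of `Q` not conjugate to `z` lies over the orbit of length 378. -/
theorem not_conj_orbit {g₀ : G} (hu₀ : g₀ * z * g₀⁻¹ ∈ Q) (hne₀ : g₀ * z * g₀⁻¹ ≠ z) {t : G} (ht : t ∈ Q)
    (h2 : orderOf t = 2) (hn : ¬ IsConj z t) : h.model.orb (π t) = h.model.orb c2 := by
  have hne : t ≠ z := fun e => hn (e ▸ IsConj.refl z)
  obtain ⟨hq, hv⟩ := h.π_involution ht h2 hne
  rcases h.model.two_orbits.2.2.2.1 _ hq hv with e | e
  · exact e
  · exfalso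
    have e0 := h.fused_orbit hu₀ hne₀
    obtain ⟨k, ⟨c, rfl⟩, hk⟩ := h.model.mem_orb.1 ((e.trans e0.symm) ▸ h.model.self_mem (π t))
    obtain ⟨d, hd⟩ := h.conj_of_π hu₀ ht hv c hk
    refine hn (isConj_iff.2 ⟨(d : G) * g₀, ?_⟩)
    rw [← hd]; group

/-- The image of the stabiliser of such an involution. -/
theorem stab_image (hpos : h.model.orb (c6 0) = h.model.orb c2) (hs : ¬ ∀ k ∈ ψ.range, Explicit.Lin k) {v : V6}
    (hv : h.model.orb v = h.model.orb c2)
    (S : Subgroup ↥(Subgroup.centralizer ({z} : Set G))) (hS : ∀ c, c ∈ S ↔ ψ c v = v) :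
    Nonempty (↥(S.map ψ) ≃* Explicit.O6) := by
  have hstd : Explicit.Std ψ.range := ⟨h.model, hpos⟩
  obtain ⟨k, hk, hkv⟩ := h.model.mem_orb.1 (hv ▸ h.model.self_mem v : v ∈ h.model.orb c2)
  obtain ⟨e⟩ := hstd.stab_iso hs
  have hmap : (S.map ψ) = hstd.stab.map (MulAut.conj k).toMonoidHom := by
    ext g
    constructor
    · rintro ⟨c, hc, rfl⟩
      refine ⟨k⁻¹ * ψ c * k, ⟨mul_mem (mul_mem (inv_mem hk) ⟨c, rfl⟩) hk, ?_⟩, ?_⟩
      · show k.symm (ψ c (k c2)) = c2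
        rw [hkv, (hS c).1 hc, k.symm_apply_eq, hkv]
      · show k * (k⁻¹ * ψ c * k) * k⁻¹ = ψ c
        group
    · rintro ⟨x, ⟨hxK, hxc⟩, rfl⟩
      obtain ⟨c, hc⟩ := mul_mem (mul_mem hk hxK) (inv_mem hk)
      refine ⟨c, (hS c).2 ?_, hc⟩
      rw [hc]
      show k (x (k.symm v)) = v
      rw [← hkv, k.symm_apply_apply, hxc]
  exact ⟨(MulEquiv.subgroupCongr hmap).trans
    ((hstd.stab.equivMapOfInjective _ (MulAut.conj k).injective).symm.trans e)⟩

end CfsgLib.Sporadic.LargeFischer.LF
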