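import Cfsg.Agent.Lib.Sporadic.LargeFischer.Explicit.Chain
import Cfsg.Agent.Lib.Sporadic.LargeFischer.Stabilizers

/-!
# The position of a model inside the group preserving the set of 378 vectors
-/

set_option autoImplicit false
set_option linter.unusedSectionVars false
set_option maxRecDepth 100000

namespace CfsgLib.Sporadic.LargeFischer.Explicit

theorem inOb_card : (Finset.univ.filter fun v : V6 => inOb v = true).card = 378 := by decide +kernel

theorem inOb_tv_c2 : (List.range 4096).all (fun n => inOb (tvFun c2 (dec n)) == inOb (dec n)) = true := by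
  decide +kernel

theorem inOb_fr : (List.range 4096).all (fun n => inOb (fun i => fro (dec n i)) == inOb (dec n)) = true := by
  decide +kernel

theorem inOb_frV (v : V6) : inOb (frV v) = inOb v :=
  beq_iff_eq.1 (forall_of_codes (p := fun v => inOb (fun i => fro (v i)) == inOb v) inOb_fr v)

/-- A model in standard position. -/
structure Std (K : Subgroup (V6 ≃ₗ[ZMod 2] V6)) : Prop where
  model : Model K
  pos : model.orb (c6 0) = model.orb c2

namespace Std

variable {K : Subgroup (V6 ≃ₗ[ZMod 2] V6)} (h : Std K)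
include h

theorem orb_iff (v : V6) : v ∈ h.model.orb c2 ↔ inOb v = true := by
  classical
  have hsub : (Finset.univ.filter fun v : V6 => inOb v = true) ⊆ h.model.orb c2 := by
    intro u hu
    rcases (inOb_spec u).1 (Finset.mem_filter.1 hu).2 with e | ⟨e, e'⟩
    · rw [← h.model.canon_two e]; exact h.model.self_mem u
    · rw [← h.pos, ← e', ← h.model.canon_six e]; exact h.model.self_mem u
  rw [← Finset.eq_of_subset_of_card_le hsub (le_of_eq (h.model.two_orbits.2.1.trans inOb_card.symm)),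
    Finset.mem_filter]
  simp

theorem inOb_map {g : V6 ≃ₗ[ZMod 2] V6} (hg : g ∈ K) (v : V6) : inOb (g v) = inOb v := by
  rw [Bool.eq_iff_iff, ← h.orb_iff, ← h.orb_iff, h.model.mem_orb, h.model.mem_orb]
  constructor
  · rintro ⟨k, hk, e⟩
    exact ⟨g⁻¹ * k, mul_mem (inv_mem hg) hk, by show g.symm (k c2) = v; rw [e, g.symm_apply_apply]⟩
  · rintro ⟨k, hk, e⟩
    exact ⟨g * k, mul_mem hg hk, by show g (k c2) = g v; rw [e]⟩

theorem mem_AL {g : V6 ≃ₗ[ZMod 2] V6} (hg : g ∈ K) (hl : Lin g) : g ∈ AL :=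
  ⟨hl, h.model.quad g hg, h.inOb_map hg⟩

theorem exists_mem {t : V6} (ht : inOb t = true) : ∃ g ∈ K, g c2 = t := h.model.mem_orb.1 ((h.orb_iff t).2 ht)

theorem tv_eq_conj {t : V6} {g : V6 ≃ₗ[ZMod 2] V6} (hg : g ∈ K) (e : g c2 = t) : g * tv c2 * g⁻¹ = tv t := by
  rw [← e]; exact conj_tv (h.model.scal g hg) (h.model.quad g hg) (herm_of_inOb inOb_c2)

theorem tv_mem (t : V6) (ht : inOb t = true) : tv t ∈ AL := by
  refine ⟨lin_tv t, qs_tv t, fun v => ?_⟩
  obtain ⟨g, hg, e⟩ := h.exists_mem ht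
  rw [← h.tv_eq_conj hg e]
  show inOb (g (tv c2 (g.symm v))) = _
  rw [h.inOb_map hg, tv_apply (herm_of_inOb inOb_c2),
    beq_iff_eq.1 (forall_of_codes (p := fun v => inOb (tvFun c2 v) == inOb v) inOb_tv_c2 (g.symm v))]
  conv_rhs => rw [← g.apply_symm_apply v, h.inOb_map hg]

theorem AL_le_of_tv (hT : tv c2 ∈ K) : AL ≤ K := by
  have hall : ∀ t, inOb t = true → tv t ∈ K := fun t ht => by
    obtain ⟨g, hg, e⟩ := h.exists_mem ht
    rw [← h.tv_eq_conj hg e]
    exact mul_mem (mul_mem hg hT) (inv_mem hg)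
  have h0 : AL = Fx 0 := le_antisymm (fun g hg => ⟨hg, fun j hj => absurd hj (Nat.not_lt_zero j)⟩) fun g hg => hg.1
  rw [h0, Fx_eq h.tv_mem (Nat.zero_le 6)]
  refine (Subgroup.closure_le _).2 ?_
  rintro _ ⟨t, ht, -, rfl⟩
  exact hall t ht

/-- If the transvections lie in the group, it is linear. -/
theorem lin_of_tv (hT : tv c2 ∈ K) {g : V6 ≃ₗ[ZMod 2] V6} (hg : g ∈ K) : Lin g := by
  haveI := h.model.finite_K
  have e : AL = K := Subgroup.eq_of_le_of_card_ge (h.AL_le_of_tv hT) (by rw [card_AL h.tv_mem, h.model.card])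
  exact (e ▸ hg : g ∈ AL).1

/-- The linear part. -/
theorem linPart {x : V6 ≃ₗ[ZMod 2] V6} : x ∈ AL ⊓ K ↔ x ∈ K ∧ Lin x :=
  ⟨fun e => ⟨e.2, e.1.1⟩, fun e => ⟨h.mem_AL e.1 e.2, e.1⟩⟩

theorem card_linPart (hs : ¬ ∀ g ∈ K, Lin g) : Nat.card (AL ⊓ K : Subgroup _) = 9797760 := by
  haveI := h.model.finite_K
  push Not at hs
  obtain ⟨s, hsK, hs⟩ := hs
  have hanti := (h.model.scal s hsK).resolve_left hs
  have hidx : ((AL ⊓ K).subgroupOf K).index = 2 := Subgroup.index_eq_two_iff.2 ⟨⟨s, hsK⟩, fun b => by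
    rw [Subgroup.mem_subgroupOf, Subgroup.mem_subgroupOf, h.linPart, h.linPart]
    rcases h.model.scal (b : V6 ≃ₗ[ZMod 2] V6) b.2 with hb | hb
    · refine Or.inr ⟨⟨b.2, hb⟩, fun e => hs ?_⟩
      intro v
      have e2 := ((Lin.inv hb).mul (show Lin ((b : V6 ≃ₗ[ZMod 2] V6) * s) from e.2)) v
      rwa [← mul_assoc, inv_mul_cancel, one_mul] at e2
    · refine Or.inl ⟨⟨(b * ⟨s, hsK⟩ : ↥K).2, fun v => ?_⟩, fun e => not_lin_of_anti hb e.2⟩
      show (b : V6 ≃ₗ[ZMod 2] V6) (s (omV v)) = omV ((b : V6 ≃ₗ[ZMod 2] V6) (s v))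
      rw [hanti, hb, hb]
      simp only [omV_cube]⟩
  have := ((AL ⊓ K).subgroupOf K).card_mul_index
  rw [hidx, Nat.card_congr (Subgroup.subgroupOfEquivOfLe (inf_le_right : AL ⊓ K ≤ K)).toEquiv, h.model.card] at this
  omega

theorem tv_not_mem (hs : ¬ ∀ g ∈ K, Lin g) : tv c2 ∉ K := fun e => hs fun _ hg => h.lin_of_tv e hg

/-- Products of two transvections lie in the group. -/
theorem tv_mul_mem {a b : V6} (ha : inOb a = true) (hb : inOb b = true) : tv a * tv b ∈ K := by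
  haveI : Finite (V6 ≃ₗ[ZMod 2] V6) := Finite.of_injective _ DFunLike.coe_injective
  by_cases hl : ∀ g ∈ K, Lin g
  · have e : K = AL := Subgroup.eq_of_le_of_card_ge (fun g hg => h.mem_AL hg (hl g hg))
      (by rw [card_AL h.tv_mem, h.model.card])
    rw [e]
    exact mul_mem (h.tv_mem a ha) (h.tv_mem b hb)
  have hidx : ((AL ⊓ K).subgroupOf AL).index = 2 := by
    have := ((AL ⊓ K).subgroupOf AL).card_mul_index
    rw [Nat.card_congr (Subgroup.subgroupOfEquivOfLe (inf_le_left : AL ⊓ K ≤ AL)).toEquiv, h.card_linPart hl,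
      card_AL h.tv_mem] at this
    omega
  have hnot : ∀ t (ht : inOb t = true), (⟨tv t, h.tv_mem t ht⟩ : ↥AL) ∉ (AL ⊓ K).subgroupOf AL := by
    intro t ht e
    obtain ⟨g, hg, eg⟩ := h.exists_mem ht
    have h1 : tv t ∈ K := (Subgroup.mem_subgroupOf.1 e).2
    rw [← h.tv_eq_conj hg eg] at h1
    refine h.tv_not_mem hl ?_
    simpa [mul_assoc] using mul_mem (mul_mem (inv_mem hg) h1) hg
  have := (Subgroup.mul_mem_iff_of_index_two hidx (a := ⟨tv a, h.tv_mem a ha⟩) (b := ⟨tv b, h.tv_mem b hb⟩)).2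
    ⟨fun e => absurd e (hnot a ha), fun e => absurd e (hnot b hb)⟩
  exact (Subgroup.mem_subgroupOf.1 this).2

end Std

end CfsgLib.Sporadic.LargeFischer.Explicit
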