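import Cfsg.Agent.Lib.Sporadic.LargeFischer.Explicit.SylowBound
import Cfsg.Agent.Lib.Sporadic.LargeFischer.Explicit.Shape

/-!
# Elementary abelian subgroups of a semilinear model and the vectors they fix

For an elementary abelian `F` fixing the totally singular `W` pointwise `|F| |W| ≤ 1024`, and in the case of equality
`W` is conjugate to the plane `plane` and `F` is the group fixing it.
-/

set_option autoImplicit false
set_option linter.unusedSectionVars false
set_option maxRecDepth 100000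

open scoped Pointwise

namespace CfsgLib.Sporadic.LargeFischer.Explicit

/-- The totally singular plane. -/
def plane : AddSubgroup V6 where
  carrier := {v | v 1 = v 0 ∧ v 3 = v 2 ∧ v 5 = fmul (1, 1) (v 4)}
  zero_mem' := ⟨rfl, rfl, rfl⟩
  add_mem' := fun {u v} hu hv => ⟨by show u 1 + v 1 = u 0 + v 0; rw [hu.1, hv.1],
    by show u 3 + v 3 = u 2 + v 2; rw [hu.2.1, hv.2.1],
    by show u 5 + v 5 = fmul (1, 1) (u 4 + v 4); rw [(fmul_facts (1, 1) (u 4) (v 4)).2.2.1, hu.2.2, hv.2.2]⟩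
  neg_mem' := fun {u} hu => by
    have : -u = u := funext fun i => ZModModule.neg_eq_self (u i)
    rw [this]; exact hu

theorem mem_plane_iff {v : V6} : v ∈ plane ↔ v 1 = v 0 ∧ v 3 = v 2 ∧ v 5 = fmul (1, 1) (v 4) := Iff.rfl

theorem qs_plane {v : V6} (hv : v ∈ plane) : qs v = 0 := by
  obtain ⟨h1, h3, h5⟩ := hv
  rw [qs, Fin.sum_univ_six, h1, h3, h5]
  generalize v 0 = a; generalize v 2 = b; generalize v 4 = c
  revert a b c; decide

theorem card_plane : Nat.card plane = 64 := by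
  let e : plane ≃ D4 × D4 × D4 :=
    { toFun := fun v => ((v : V6) 0, (v : V6) 2, (v : V6) 4)
      invFun := fun p => ⟨![p.1, p.1, p.2.1, p.2.1, p.2.2, fmul (1, 1) p.2.2], ⟨rfl, rfl, rfl⟩⟩
      left_inv := fun v => Subtype.ext (funext fun i => by
        fin_cases i
        · rfl
        · exact v.2.1.symm
        · rfl
        · exact v.2.2.1.symm
        · rfl
        · exact v.2.2.2.symm)
      right_inv := fun p => rfl }
  rw [Nat.card_congr e]
  simp only [Nat.card_prod, Nat.card_zmod]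

theorem omV_plane {v : V6} (hv : v ∈ plane) : omV v ∈ plane := by
  obtain ⟨h1, h3, h5⟩ := hv
  refine ⟨congrArg om h1, congrArg om h3, ?_⟩
  show om (v 5) = fmul (1, 1) (om (v 4))
  rw [h5]
  generalize v 4 = d; revert d; decide

theorem plane_fix_check : (List.range 4).all (fun i => (List.range 4096).all fun n =>
    let v := dec n
    !(decide (v 1 = v 0) && decide (v 3 = v 2) && decide (v 5 = fmul (1, 1) (v 4))) ||
      tvFun (dec (sylGens.getD i (0, 0)).1) (tvFun (dec (sylGens.getD i (0, 0)).2) v) == v) = true := by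
  decide +kernel

theorem plane_fix_conv : (List.range 4096).all (fun n =>
    !((List.range 4).all fun i =>
      tvFun (dec (sylGens.getD i (0, 0)).1) (tvFun (dec (sylGens.getD i (0, 0)).2) (dec n)) == dec n) ||
      (decide (dec n 1 = dec n 0) && decide (dec n 3 = dec n 2) && decide (dec n 5 = fmul (1, 1) (dec n 4)))) = true := by
  decide +kernel

theorem sylGen_apply {i : ℕ} (hi : i < 6) (v : V6) :
    sylGen i v = tvFun (dec (sylGens.getD i (0, 0)).1) (tvFun (dec (sylGens.getD i (0, 0)).2) v) := by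
  rw [sylGen, pairMap, LinearEquiv.mul_apply, tv_apply (herm_of_inOb (gens_ok i hi).1),
    tv_apply (herm_of_inOb (gens_ok i hi).2)]

theorem planeGroup_fix {g : V6 ≃ₗ[ZMod 2] V6} (hg : g ∈ planeGroup) {v : V6} (hv : v ∈ plane) : g v = v := by
  let S : Subgroup (V6 ≃ₗ[ZMod 2] V6) :=
    { carrier := {g | ∀ v ∈ plane, g v = v}
      one_mem' := fun _ _ => rfl
      mul_mem' := fun {a b} ha hb v hv => by show a (b v) = v; rw [hb v hv, ha v hv]
      inv_mem' := fun {a} ha v hv => by show a.symm v = v; rw [a.symm_apply_eq, ha v hv] }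
  have hle : planeGroup ≤ S := (Subgroup.closure_le _).2 (by
    rintro _ ⟨i, hi, rfl⟩ v hv
    have h := List.all_eq_true.1 (List.all_eq_true.1 plane_fix_check i (List.mem_range.2 hi)) (code v)
      (List.mem_range.2 (code_lt v))
    simp only [dec_code, Bool.or_eq_true, Bool.not_eq_true', Bool.and_eq_false_iff, decide_eq_false_iff_not,
      beq_iff_eq] at h
    rw [sylGen_apply (by omega)]
    rcases h with ((h | h) | h) | h
    · exact absurd hv.1 h
    · exact absurd hv.2.1 h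
    · exact absurd hv.2.2 h
    · exact h)
  exact hle hg v hv

theorem mem_plane_of_fixed {v : V6} (hv : ∀ g ∈ planeGroup, g v = v) : v ∈ plane := by
  have h := List.all_eq_true.1 plane_fix_conv (code v) (List.mem_range.2 (code_lt v))
  simp only [dec_code, Bool.or_eq_true, Bool.not_eq_true', Bool.and_eq_true, decide_eq_true_eq] at h
  rcases h with h | ⟨⟨h1, h3⟩, h5⟩
  · exfalso
    rw [List.all_eq_false] at h
    obtain ⟨i, hi, hne⟩ := h
    refine hne (beq_iff_eq.2 ?_)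
    rw [← sylGen_apply (by have := List.mem_range.1 hi; omega)]
    exact hv _ (Subgroup.subset_closure ⟨i, List.mem_range.1 hi, rfl⟩)
  · exact ⟨h1, h3, h5⟩

theorem planeGroup_le : planeGroup ≤ sylGroup :=
  Subgroup.closure_mono fun _ ⟨i, hi, e⟩ => ⟨i, by omega, e⟩

theorem card_planeGroup : Nat.card planeGroup = 16 := by
  classical
  have e : cols '' (planeGroup : Set (V6 ≃ₗ[ZMod 2] V6)) = ↑planeElts.toFinset := by
    ext L
    rw [Finset.mem_coe, List.mem_toFinset]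
    exact ⟨fun ⟨g, hg, e⟩ => e ▸ plane_cols hg, fun hL => plane_reach L hL⟩
  rw [← SetLike.coe_sort_coe, Nat.card_coe_set_eq, ← Set.ncard_image_of_injective _ cols_injective, e,
    Set.ncard_coe_finset]
  decide +kernel

namespace Std

variable {K : Subgroup (V6 ≃ₗ[ZMod 2] V6)} (h : Std K)
include h

theorem pairMap_mem {p : ℕ × ℕ} (h1 : inOb (dec p.1) = true) (h2 : inOb (dec p.2) = true) : pairMap p ∈ AL ⊓ K :=
  ⟨mul_mem (h.tv_mem _ h1) (h.tv_mem _ h2), h.tv_mul_mem h1 h2⟩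

theorem sylGroup_le : sylGroup ≤ AL ⊓ K := (Subgroup.closure_le _).2 fun _ ⟨i, hi, e⟩ =>
  e ▸ h.pairMap_mem (gens_ok i hi).1 (gens_ok i hi).2

/-- Two-subgroups of the linear part are conjugate into the table. -/
theorem exists_conj_into (hs : ¬ ∀ g ∈ K, Lin g) {F : Subgroup (V6 ≃ₗ[ZMod 2] V6)} (hF : F ≤ AL ⊓ K)
    (h2 : IsPGroup 2 F) : ∃ k ∈ AL ⊓ K, ∀ f ∈ F, k⁻¹ * f * k ∈ sylGroup := by
  haveI : Fact (Nat.Prime 2) := ⟨Nat.prime_two⟩
  haveI : Finite (V6 ≃ₗ[ZMod 2] V6) := Finite.of_injective _ DFunLike.coe_injective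
  set L := AL ⊓ K with hL
  have hfac : (Nat.card L).factorization 2 = 7 := by
    rw [h.card_linPart hs, show (9797760 : ℕ) = 2 ^ 7 * 76545 by norm_num,
      Nat.factorization_mul (by norm_num) (by norm_num), Nat.Prime.factorization_pow Nat.prime_two]
    simp [Nat.factorization_eq_zero_of_not_dvd (show ¬ 2 ∣ 76545 by norm_num)]
  let P₀ : Sylow 2 L := Sylow.ofCard (sylGroup.subgroupOf L) (by
    rw [Nat.card_congr (Subgroup.subgroupOfEquivOfLe h.sylGroup_le).toEquiv, card_sylGroup, hfac]; norm_num)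
  have hFp : IsPGroup 2 (F.subgroupOf L) := h2.of_equiv (Subgroup.subgroupOfEquivOfLe hF).symm
  obtain ⟨P, hP⟩ := hFp.exists_le_sylow
  obtain ⟨k, hk⟩ := MulAction.exists_smul_eq L P₀ P
  refine ⟨k, k.2, fun f hf => ?_⟩
  have hm : (⟨f, hF hf⟩ : L) ∈ P := hP (Subgroup.mem_subgroupOf.2 hf)
  rw [← hk] at hm
  change (⟨f, hF hf⟩ : L) ∈ (MulAut.conj k • (P₀ : Subgroup L) : Subgroup L) at hm
  rw [Subgroup.mem_pointwise_smul_iff_inv_smul_mem, MulAut.smul_def, MulAut.conj_inv_apply] at hm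
  exact Subgroup.mem_subgroupOf.1 hm

end Std

/-- An elementary abelian group is a two-group. -/
theorem isPGroup_of_sq {X : Type*} [Group X] {F : Subgroup X} (hs : ∀ a ∈ F, a * a = 1) : IsPGroup 2 F :=
  fun a => ⟨1, Subtype.ext (by rw [pow_one, pow_two]; exact hs a a.2)⟩

namespace Std

variable {K : Subgroup (V6 ≃ₗ[ZMod 2] V6)} (h : Std K)
include h

/-- The bound, and the case of equality. -/
theorem max_pair (hs : ¬ ∀ g ∈ K, Lin g) (F : Subgroup (V6 ≃ₗ[ZMod 2] V6)) (hF : F ≤ K)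
    (hc : ∀ a ∈ F, ∀ b ∈ F, a * b = b * a) (hsq : ∀ a ∈ F, a * a = 1) (W : AddSubgroup V6)
    (hW : ∀ w ∈ W, qs w = 0) (hfix : ∀ a ∈ F, ∀ w ∈ W, a w = w) (hbig : 1024 ≤ Nat.card F * Nat.card W) :
    Nat.card F = 16 ∧ Nat.card W = 64 ∧ (∀ a ∈ F, Lin a) ∧
    ∃ k ∈ AL ⊓ K, (∀ w, w ∈ W ↔ k⁻¹ w ∈ plane) ∧ ∀ a ∈ F, k⁻¹ * a * k ∈ planeGroup := by
  classical
  haveI : Finite (V6 ≃ₗ[ZMod 2] V6) := Finite.of_injective _ DFunLike.coe_injective
  have hW64 := singular_card_le W hW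
  set FL := AL ⊓ F with hFL
  have hFLle : FL ≤ F := inf_le_right
  have hFLL : FL ≤ AL ⊓ K := le_inf inf_le_left (inf_le_right.trans hF)
  obtain ⟨k, hk, hconj⟩ := h.exists_conj_into hs hFLL (isPGroup_of_sq fun a ha => hsq a (hFLle ha))
  set FL' := FL.map (MulAut.conj k⁻¹).toMonoidHom with hFL'
  have hmem' : ∀ a ∈ FL, k⁻¹ * a * k ∈ FL' := fun a ha => ⟨a, ha, by simp⟩
  have hle' : FL' ≤ sylGroup := by
    rintro _ ⟨a, ha, rfl⟩
    simpa using hconj a ha
  have hc' : ∀ a ∈ FL', ∀ b ∈ FL', a * b = b * a := by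
    rintro _ ⟨a, ha, rfl⟩ _ ⟨b, hb, rfl⟩
    rw [← map_mul, ← map_mul, hc a (hFLle ha) b (hFLle hb)]
  have hsq' : ∀ a ∈ FL', a * a = 1 := by
    rintro _ ⟨a, ha, rfl⟩
    rw [← map_mul, hsq a (hFLle ha), map_one]
  have hcard' : Nat.card FL' = Nat.card FL :=
    Subgroup.card_map_of_injective (MulAut.conj k⁻¹).injective
  have hFL32 := card_lt hle' hc' hsq'
  rw [hcard'] at hFL32
  by_cases hlin : ∀ a ∈ F, Lin a
  · have hFL_eq : FL = F := le_antisymm inf_le_right fun a ha => ⟨h.mem_AL (hF ha) (hlin a ha), ha⟩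
    rw [hFL_eq] at hcard' hFL32 hmem'
    have hFle : Nat.card F ≤ 16 := by
      obtain ⟨n, hn⟩ := IsPGroup.iff_card.1 (isPGroup_of_sq hsq : IsPGroup 2 F)
      rw [hn] at hFL32 ⊢
      have : n < 5 := (Nat.pow_lt_pow_iff_right (by norm_num)).1 (show 2 ^ n < 2 ^ 5 by omega)
      exact (Nat.pow_le_pow_right (by norm_num) (show n ≤ 4 by omega)).trans (by norm_num)
    have h16 : Nat.card F = 16 ∧ Nat.card W = 64 := by
      have h1 : Nat.card F * Nat.card W ≤ 16 * 64 := Nat.mul_le_mul hFle hW64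
      have h2 := Nat.mul_le_mul hFle (le_refl (Nat.card W))
      have h3 := Nat.mul_le_mul (le_refl (Nat.card F)) hW64
      omega
    obtain ⟨h16, h64⟩ := h16
    refine ⟨h16, h64, hlin, k, hk, ?_⟩
    let W' := W.map (k⁻¹ : V6 ≃ₗ[ZMod 2] V6).toAddEquiv.toAddMonoidHom
    have hW' : ∀ w ∈ W', qs w = 0 := by
      rintro _ ⟨w, hw, rfl⟩
      show qs ((k⁻¹ : V6 ≃ₗ[ZMod 2] V6) w) = 0
      rw [h.model.quad _ (inv_mem hk.2), hW w hw]
    have h64' : Nat.card W' = 64 := by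
      rw [AddSubgroup.card_map_of_injective (f := (k⁻¹ : V6 ≃ₗ[ZMod 2] V6).toAddEquiv.toAddMonoidHom)
        (k⁻¹ : V6 ≃ₗ[ZMod 2] V6).injective, h64]
    have hfix' : ∀ a ∈ FL', ∀ w ∈ W', a w = w := by
      rintro _ ⟨a, ha, rfl⟩ _ ⟨w, hw, rfl⟩
      show (k⁻¹ * a * k⁻¹⁻¹) ((k⁻¹ : V6 ≃ₗ[ZMod 2] V6) w) = (k⁻¹ : V6 ≃ₗ[ZMod 2] V6) w
      rw [inv_inv, LinearEquiv.mul_apply, LinearEquiv.mul_apply, show k ((k⁻¹ : V6 ≃ₗ[ZMod 2] V6) w) = w from
        k.apply_symm_apply w, hfix a (hFLle ha) w hw]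
    have hsub : FL' ≤ planeGroup := by
      intro a ha
      by_cases ha1 : a = 1
      · rw [ha1]; exact one_mem _
      · obtain ⟨g, hg, e⟩ := plane_reach _ (mem_plane hle' hc' hsq' (by omega)
          (fun b hb v => h.model.quad b (h.sylGroup_le (hle' hb)).2 v) W' hW' h64' hfix' ha ha1)
        exact cols_injective e ▸ hg
    have hFL'_eq : FL' = planeGroup := Subgroup.eq_of_le_of_card_ge hsub (by rw [hcard', h16, card_planeGroup])
    have hW'le : W' ≤ plane := fun w hw => mem_plane_of_fixed fun g hg => hfix' g (hFL'_eq ▸ hg) w hw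
    have hW'_eq : W' = plane := AddSubgroup.eq_of_le_of_card_ge hW'le (by rw [h64', card_plane])
    refine ⟨fun w => ?_, fun a ha => hsub (hmem' a ha)⟩
    rw [← hW'_eq]
    constructor
    · intro hw; exact ⟨w, hw, rfl⟩
    · rintro ⟨u, hu, e⟩
      exact (k⁻¹ : V6 ≃ₗ[ZMod 2] V6).injective e ▸ hu
  · exfalso
    push Not at hlin
    obtain ⟨f, hfF, hf⟩ := hlin
    have hanti := (h.model.scal f (hF hfF)).resolve_left hf
    -- the index of the linear part is at most two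
    have hidx : Nat.card F ≤ 2 * Nat.card FL := by
      have hi : (FL.subgroupOf F).index = 2 := Subgroup.index_eq_two_iff.2 ⟨⟨f, hfF⟩, fun b => by
        rw [Subgroup.mem_subgroupOf, Subgroup.mem_subgroupOf]
        rcases h.model.scal (b : V6 ≃ₗ[ZMod 2] V6) (hF b.2) with hb | hb
        · refine Or.inr ⟨⟨h.mem_AL (hF b.2) hb, b.2⟩, fun e => hf ?_⟩
          have e2 := (Lin.inv hb).mul (show Lin ((b : V6 ≃ₗ[ZMod 2] V6) * f) from e.1.1)
          rwa [← mul_assoc, inv_mul_cancel, one_mul] at e2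
        · refine Or.inl ⟨⟨h.mem_AL (hF (b * ⟨f, hfF⟩ : ↥F).2) (fun v => ?_), (b * ⟨f, hfF⟩ : ↥F).2⟩,
            fun e => not_lin_of_anti hb e.1.1⟩
          show (b : V6 ≃ₗ[ZMod 2] V6) (f (omV v)) = omV ((b : V6 ≃ₗ[ZMod 2] V6) (f v))
          rw [hanti, hb, hb]
          simp only [omV_cube]⟩
      have := (FL.subgroupOf F).card_mul_index
      rw [hi, Nat.card_congr (Subgroup.subgroupOfEquivOfLe hFLle).toEquiv] at this
      omega
    have hW32 : 16 < Nat.card W := by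
      by_contra hle
      push Not at hle
      have := Nat.mul_le_mul (show Nat.card F ≤ 62 by omega) hle
      omega
    -- the multiples of the fixed vectors
    let omh : V6 →+ V6 := AddMonoidHom.mk' omV fun u w => funext fun i => by
      show om (u i + w i) = om (u i) + om (w i)
      generalize u i = a; generalize w i = b; revert a b; decide
    let φ : ↥W × ↥W →+ V6 := (AddMonoidHom.coprod W.subtype (omh.comp W.subtype))
    have hφ : Function.Injective φ := by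
      refine (injective_iff_map_eq_zero φ).2 fun p hp => ?_
      obtain ⟨⟨u, hu⟩, ⟨w, hw⟩⟩ := p
      have e : u + omV w = 0 := hp
      have e' := congrArg f e
      rw [map_add, map_zero, hanti, hfix f hfF u hu, hfix f hfF w hw] at e'
      have e2 : omV (omV w) = omV w := add_left_cancel (e'.trans e.symm)
      have hw0 : w = 0 := funext fun i => (omV_om (w i)).2.2
        (by
          have := congrArg (fun x => omV (omV x)) e2
          simp only [omV_cube] at this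
          exact (congrFun this.symm i).symm)
      have hu0 : u = 0 := by
        rw [hw0, show omV (0 : V6) = 0 from funext fun i => (by decide : om 0 = 0), add_zero] at e
        exact e
      exact Prod.ext (Subtype.ext hu0) (Subtype.ext hw0)
    have hX : Nat.card φ.range = Nat.card W * Nat.card W := by
      rw [← Nat.card_prod]
      exact (Nat.card_congr (AddMonoidHom.ofInjective hφ).toEquiv).symm
    have hFL1 : Nat.card FL = 1 := by
      rw [Subgroup.card_eq_one, Subgroup.eq_bot_iff_forall]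
      intro a ha
      by_contra ha1
      set a' := k⁻¹ * a * k with ha'
      have hle := fixed_le (hconj a ha) (fun e => ha1 (by
          calc a = k * (k⁻¹ * a * k) * k⁻¹ := by group
            _ = 1 := by rw [show k⁻¹ * a * k = 1 from e]; group))
        (by rw [show k⁻¹ * a * k * (k⁻¹ * a * k) = k⁻¹ * (a * a) * k by group, hsq a (hFLle ha)]; group)
        (φ.range.map (k⁻¹ : V6 ≃ₗ[ZMod 2] V6).toAddEquiv.toAddMonoidHom) (by
          rintro _ ⟨_, ⟨⟨⟨u, hu⟩, ⟨w, hw⟩⟩, rfl⟩, rfl⟩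
          show k.symm (a (k (k.symm (u + omV w)))) = k.symm (u + omV w)
          rw [k.apply_symm_apply, map_add a u (omV w), ha.1.1 w, hfix a (hFLle ha) u hu, hfix a (hFLle ha) w hw])
      rw [AddSubgroup.card_map_of_injective (f := (k⁻¹ : V6 ≃ₗ[ZMod 2] V6).toAddEquiv.toAddMonoidHom)
        (k⁻¹ : V6 ≃ₗ[ZMod 2] V6).injective, hX] at hle
      have := Nat.mul_le_mul hW32 hW32
      omega
    have := Nat.mul_le_mul (show Nat.card F ≤ 2 by omega) hW64
    omega

/-- In a two-subgroup the singular subgroup of an extremal pair is unique. -/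
theorem max_pair_unique (hs : ¬ ∀ g ∈ K, Lin g) (P : Subgroup (V6 ≃ₗ[ZMod 2] V6)) (hP : P ≤ K) (hP2 : IsPGroup 2 P)
    (F₁ F₂ : Subgroup (V6 ≃ₗ[ZMod 2] V6)) (h1 : F₁ ≤ P) (h2 : F₂ ≤ P)
    (hc1 : ∀ a ∈ F₁, ∀ b ∈ F₁, a * b = b * a) (hc2 : ∀ a ∈ F₂, ∀ b ∈ F₂, a * b = b * a)
    (hs1 : ∀ a ∈ F₁, a * a = 1) (hs2 : ∀ a ∈ F₂, a * a = 1) (W₁ W₂ : AddSubgroup V6) (hW1 : ∀ w ∈ W₁, qs w = 0)
    (hW2 : ∀ w ∈ W₂, qs w = 0) (hf1 : ∀ a ∈ F₁, ∀ w ∈ W₁, a w = w) (hf2 : ∀ a ∈ F₂, ∀ w ∈ W₂, a w = w)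
    (hb1 : 1024 ≤ Nat.card F₁ * Nat.card W₁) (hb2 : 1024 ≤ Nat.card F₂ * Nat.card W₂) : W₁ = W₂ := by
  classical
  haveI : Finite (V6 ≃ₗ[ZMod 2] V6) := Finite.of_injective _ DFunLike.coe_injective
  haveI : Fact (Nat.Prime 2) := ⟨Nat.prime_two⟩
  obtain ⟨k, hk, hconj⟩ := h.exists_conj_into hs (F := AL ⊓ P) (le_inf inf_le_left (inf_le_right.trans hP))
    (hP2.to_le inf_le_right)
  have key : ∀ (F : Subgroup (V6 ≃ₗ[ZMod 2] V6)) (W : AddSubgroup V6), F ≤ P →
      (∀ a ∈ F, ∀ b ∈ F, a * b = b * a) → (∀ a ∈ F, a * a = 1) → (∀ w ∈ W, qs w = 0) →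
      (∀ a ∈ F, ∀ w ∈ W, a w = w) → 1024 ≤ Nat.card F * Nat.card W →
      W = plane.map (k : V6 ≃ₗ[ZMod 2] V6).toAddEquiv.toAddMonoidHom := by
    intro F W hFP hc hsq hW hfix hbig
    obtain ⟨h16, h64, hlin, -⟩ := h.max_pair hs F (hFP.trans hP) hc hsq W hW hfix hbig
    set F' := F.map (MulAut.conj k⁻¹).toMonoidHom with hF'
    have hF's : F' ≤ sylGroup := by
      rintro _ ⟨a, ha, rfl⟩
      simpa using hconj a ⟨h.mem_AL (hP (hFP ha)) (hlin a ha), hFP ha⟩
    let W' := W.map (k⁻¹ : V6 ≃ₗ[ZMod 2] V6).toAddEquiv.toAddMonoidHom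
    have hW' : ∀ w ∈ W', qs w = 0 := by
      rintro _ ⟨w, hw, rfl⟩
      show qs ((k⁻¹ : V6 ≃ₗ[ZMod 2] V6) w) = 0
      rw [h.model.quad _ (inv_mem hk.2), hW w hw]
    have h64' : Nat.card W' = 64 := by
      rw [AddSubgroup.card_map_of_injective (f := (k⁻¹ : V6 ≃ₗ[ZMod 2] V6).toAddEquiv.toAddMonoidHom)
        (k⁻¹ : V6 ≃ₗ[ZMod 2] V6).injective, h64]
    have hfix' : ∀ a ∈ F', ∀ w ∈ W', a w = w := by
      rintro _ ⟨a, ha, rfl⟩ _ ⟨w, hw, rfl⟩
      show (k⁻¹ * a * k⁻¹⁻¹) ((k⁻¹ : V6 ≃ₗ[ZMod 2] V6) w) = (k⁻¹ : V6 ≃ₗ[ZMod 2] V6) w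
      rw [inv_inv, LinearEquiv.mul_apply, LinearEquiv.mul_apply, show k ((k⁻¹ : V6 ≃ₗ[ZMod 2] V6) w) = w from
        k.apply_symm_apply w, hfix a ha w hw]
    have hc' : ∀ a ∈ F', ∀ b ∈ F', a * b = b * a := by
      rintro _ ⟨a, ha, rfl⟩ _ ⟨b, hb, rfl⟩
      rw [← map_mul, ← map_mul, hc a ha b hb]
    have hsq' : ∀ a ∈ F', a * a = 1 := by
      rintro _ ⟨a, ha, rfl⟩
      rw [← map_mul, hsq a ha, map_one]
    have h16' : Nat.card F' = 16 := (Subgroup.card_map_of_injective (MulAut.conj k⁻¹).injective).trans h16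
    have hsub : F' ≤ planeGroup := by
      intro a ha
      by_cases ha1 : a = 1
      · rw [ha1]; exact one_mem _
      · obtain ⟨g, hg, e⟩ := plane_reach _ (mem_plane hF's hc' hsq' (le_of_eq h16'.symm)
          (fun b hb v => h.model.quad b (h.sylGroup_le (hF's hb)).2 v) W' hW' h64' hfix' ha ha1)
        exact cols_injective e ▸ hg
    have hF'_eq : F' = planeGroup := Subgroup.eq_of_le_of_card_ge hsub (by rw [h16', card_planeGroup])
    have hW'_eq : W' = plane := AddSubgroup.eq_of_le_of_card_ge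
      (fun w hw => mem_plane_of_fixed fun g hg => hfix' g (hF'_eq ▸ hg) w hw) (by rw [h64', card_plane])
    rw [← hW'_eq]
    ext w
    constructor
    · intro hw
      exact ⟨(k⁻¹ : V6 ≃ₗ[ZMod 2] V6) w, ⟨w, hw, rfl⟩, k.apply_symm_apply w⟩
    · rintro ⟨_, ⟨u, hu, rfl⟩, rfl⟩
      show k (k.symm u) ∈ W
      rw [k.apply_symm_apply]; exact hu
  rw [key F₁ W₁ h1 hc1 hs1 hW1 hf1 hb1, key F₂ W₂ h2 hc2 hs2 hW2 hf2 hb2]

theorem planeGroup_le_linPart : planeGroup ≤ AL ⊓ K := planeGroup_le.trans h.sylGroup_le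

/-- The pointwise stabiliser of the plane. -/
theorem mem_planeGroup_of_fix (hs : ¬ ∀ g ∈ K, Lin g) {g : V6 ≃ₗ[ZMod 2] V6} (hg : g ∈ K)
    (hfix : ∀ v ∈ plane, g v = v) : g ∈ planeGroup := by
  classical
  haveI : Finite (V6 ≃ₗ[ZMod 2] V6) := Finite.of_injective _ DFunLike.coe_injective
  let F : Subgroup (V6 ≃ₗ[ZMod 2] V6) :=
    { carrier := {a | a ∈ K ∧ ∀ v ∈ plane, a v = v}
      one_mem' := ⟨one_mem _, fun _ _ => rfl⟩
      mul_mem' := fun {a b} ha hb => ⟨mul_mem ha.1 hb.1, fun v hv => by show a (b v) = v; rw [hb.2 v hv, ha.2 v hv]⟩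
      inv_mem' := fun {a} ha => ⟨inv_mem ha.1, fun v hv => by show a.symm v = v; rw [a.symm_apply_eq, ha.2 v hv]⟩ }
  have hsq : ∀ a ∈ F, a * a = 1 := by
    intro a ha
    refine LinearEquiv.ext fun v => ?_
    have e := ha.2 _ (fix_perp (h.model.quad a ha.1) plane (fun w hw => qs_plane hw) card_plane ha.2 v)
    rw [map_add] at e
    exact add_right_cancel (e.trans (add_comm _ _))
  have hcomm : ∀ a ∈ F, ∀ b ∈ F, a * b = b * a := by
    intro a ha b hb
    calc a * b = a * (a * b * (a * b)) * b := by rw [hsq _ (mul_mem ha hb), mul_one]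
      _ = (a * a) * (b * a) * (b * b) := by group
      _ = b * a := by rw [hsq a ha, hsq b hb, one_mul, mul_one]
  have hEF : planeGroup ≤ F := fun a ha => ⟨(h.planeGroup_le_linPart ha).2, fun v hv => planeGroup_fix ha hv⟩
  have h16 : 16 ≤ Nat.card F := by
    rw [← card_planeGroup]
    exact Nat.card_le_card_of_injective _ (Subgroup.inclusion_injective hEF)
  obtain ⟨hF16, -, -⟩ := h.max_pair hs F (fun a ha => ha.1) hcomm hsq plane (fun w hw => qs_plane hw)
    (fun a ha => ha.2) (by rw [card_plane]; omega)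
  have e : planeGroup = F := Subgroup.eq_of_le_of_card_ge hEF (by rw [card_planeGroup, hF16])
  rw [e]
  exact ⟨hg, hfix⟩

end Std

end CfsgLib.Sporadic.LargeFischer.Explicit
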