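import Cfsg.Agent.Lib.Sporadic.LargeFischer.Explicit.SylowBound

/-!
# Transitivity on the involutions fixing the plane
-/

set_option autoImplicit false
set_option linter.unusedSectionVars false
set_option maxRecDepth 100000

namespace CfsgLib.Sporadic.LargeFischer.Explicit

/-- The check for a row. -/
def moveOk (e : (ℕ × ℕ × ℕ) × ℕ) : Bool :=
  e.1.1 < 16 && (e.2 == 0 ||
    (e.1.2.1 < e.2 && e.1.2.2 < 3 &&
      colsComp (pairCols (planeMoves.getD e.1.2.2 (0, 0))) (planeElts.getD (moveRows.getD e.1.2.1 (0, 0, 0)).1 []) ==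
        colsComp (planeElts.getD e.1.1 []) (pairCols (planeMoves.getD e.1.2.2 (0, 0)))))

theorem moves_table : moveRows.zipIdx.all moveOk = true := by decide +kernel

theorem moves_cover : (planeElts.all fun L => L == colsOne || (moveRows.map fun r => planeElts.getD r.1 []).contains L) = true := by
  decide +kernel

theorem three_independent :
    colsOne ∉ [pairCols (sylGens.getD 0 (0, 0)), pairCols (sylGens.getD 1 (0, 0)), pairCols (sylGens.getD 2 (0, 0)),
      colsComp (pairCols (sylGens.getD 0 (0, 0))) (pairCols (sylGens.getD 1 (0, 0))),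
      colsComp (pairCols (sylGens.getD 0 (0, 0))) (pairCols (sylGens.getD 2 (0, 0))),
      colsComp (pairCols (sylGens.getD 1 (0, 0))) (pairCols (sylGens.getD 2 (0, 0))),
      colsComp (colsComp (pairCols (sylGens.getD 0 (0, 0))) (pairCols (sylGens.getD 1 (0, 0))))
        (pairCols (sylGens.getD 2 (0, 0)))] := by decide +kernel

/-- A property of the elements fixing the plane that is preserved by conjugation holds for all or for none. -/
theorem plane_dichotomy (p : (V6 ≃ₗ[ZMod 2] V6) → Prop)
    (hp : ∀ i < 3, ∀ g ∈ planeGroup, p g ↔ p (pairMap (planeMoves.getD i (0, 0)) * g * (pairMap (planeMoves.getD i (0, 0)))⁻¹))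
    {a : V6 ≃ₗ[ZMod 2] V6} (ha : a ∈ planeGroup) (ha1 : a ≠ 1) {b : V6 ≃ₗ[ZMod 2] V6} (hb : b ∈ planeGroup)
    (hb1 : b ≠ 1) : p a ↔ p b := by
  have hreach : ∀ n, n < 16 → ∃ g ∈ planeGroup, cols g = planeElts.getD n [] := fun n hn => by
    refine plane_reach' n hn
  have key : ∀ k, k < moveRows.length → ∀ g g₀, g ∈ planeGroup → g₀ ∈ planeGroup →
      cols g = planeElts.getD (moveRows.getD k (0, 0, 0)).1 [] → cols g₀ = planeElts.getD (moveRows.getD 0 (0, 0, 0)).1 [] →
      (p g ↔ p g₀) := by
    intro k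
    induction k using Nat.strong_induction_on with
    | _ k ih =>
      intro hk g g₀ hg hg₀ e e₀
      by_cases h0 : k = 0
      · subst h0
        rw [cols_injective (e.trans e₀.symm)]
      have he := List.all_eq_true.1 moves_table ((moveRows.getD k (0, 0, 0)), k) (by
        rw [List.mem_zipIdx_iff_getElem?, List.getD_eq_getElem _ _ hk]
        exact List.getElem?_eq_getElem hk)
      simp only [moveOk, Bool.and_eq_true, Bool.or_eq_true, decide_eq_true_eq, beq_iff_eq] at he
      obtain ⟨-, he | ⟨⟨hpar, hi⟩, he⟩⟩ := he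
      · exact absurd he h0
      have hpl : (moveRows.getD (moveRows.getD k (0, 0, 0)).2.1 (0, 0, 0)).1 < 16 := by
        have hlt : (moveRows.getD k (0, 0, 0)).2.1 < moveRows.length := hpar.trans hk
        have := List.all_eq_true.1 moves_table ((moveRows.getD (moveRows.getD k (0, 0, 0)).2.1 (0, 0, 0)),
          (moveRows.getD k (0, 0, 0)).2.1) (by
            rw [List.mem_zipIdx_iff_getElem?, List.getD_eq_getElem _ _ hlt]
            exact List.getElem?_eq_getElem _)
        simp only [moveOk, Bool.and_eq_true, decide_eq_true_eq] at this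
        exact this.1
      obtain ⟨u, hu, hue⟩ := hreach _ hpl
      rw [← ih _ hpar (hpar.trans hk) u g₀ hu hg₀ hue e₀, hp _ hi u hu]
      rw [← cols_pairMap (moves_ok _ hi).1 (moves_ok _ hi).2, ← hue, ← e, ← cols_mul, ← cols_mul] at he
      rw [cols_injective he, mul_inv_cancel_right]
  have hidx : ∀ c ∈ planeGroup, c ≠ 1 → ∃ k, k < moveRows.length ∧ cols c = planeElts.getD (moveRows.getD k (0, 0, 0)).1 [] := by
    intro c hc hc1
    have h := List.all_eq_true.1 moves_cover (cols c) (plane_cols hc)
    rw [Bool.or_eq_true] at h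
    rcases h with h | h
    · exact absurd (cols_injective ((beq_iff_eq.1 h).trans cols_one.symm)) hc1
    · simp only [List.contains_eq_mem, decide_eq_true_eq] at h
      obtain ⟨k, hk, hke⟩ := List.getElem_of_mem h
      rw [List.length_map] at hk
      rw [List.getElem_map] at hke
      exact ⟨k, hk, by rw [← hke, List.getD_eq_getElem _ _ hk]⟩
  obtain ⟨ka, hka, ea⟩ := hidx a ha ha1
  obtain ⟨kb, hkb, eb⟩ := hidx b hb hb1
  have h00 : (moveRows.getD 0 (0, 0, 0)).1 < 16 := by decide +kernel
  obtain ⟨g₀, hg₀, e₀⟩ := hreach _ h00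
  rw [key ka hka a g₀ ha hg₀ ea e₀, key kb hkb b g₀ hb hg₀ eb e₀]

end CfsgLib.Sporadic.LargeFischer.Explicit
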