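import Cfsg.Agent.Lib.Sporadic.LargeFischer.Explicit.Field

/-!
# The forty-five lines: tables for the six-dimensional minus space
-/

set_option autoImplicit false

namespace CfsgLib.Sporadic.LargeFischer.Explicit

/-- The points and the three singular vectors of their lines. -/
def lineRows : List (ℕ × List ℕ) := [
    (80, [1, 2, 3]), (96, [4, 8, 12]), (112, [6, 9, 15]), (144, [6, 9, 15]), (160, [1, 2, 3]),
    (176, [4, 8, 12]), (208, [4, 8, 12]), (224, [6, 9, 15]), (240, [1, 2, 3]), (272, [26, 39, 61]),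
    (288, [23, 45, 58]), (304, [29, 42, 55]), (320, [27, 37, 62]), (384, [21, 46, 59]), (448, [30, 43, 53]),
    (528, [29, 42, 55]), (544, [26, 39, 61]), (560, [23, 45, 58]), (576, [30, 43, 53]), (640, [27, 37, 62]),
    (704, [21, 46, 59]), (784, [23, 45, 58]), (800, [29, 42, 55]), (816, [26, 39, 61]), (832, [21, 46, 59]),
    (896, [30, 43, 53]), (960, [27, 37, 62]), (1040, [27, 46, 53]), (1056, [30, 37, 59]), (1072, [21, 43, 62]),
    (1088, [26, 45, 55]), (1152, [29, 39, 58]), (1216, [23, 42, 61]), (1280, [1, 8, 9]), (1365, [1, 26, 27]),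
    (1386, [8, 37, 45]), (1407, [9, 55, 62]), (1434, [9, 39, 46]), (1455, [1, 58, 59]), (1461, [8, 21, 29]),
    (1503, [8, 53, 61]), (1509, [9, 23, 30]), (1530, [1, 42, 43]), (1536, [2, 4, 6]), (1626, [2, 53, 55]),
    (1647, [4, 26, 30]), (1653, [6, 43, 45]), (1695, [6, 27, 29]), (1701, [2, 37, 39]), (1722, [4, 58, 62]),
    (1749, [4, 42, 46]), (1770, [6, 59, 61]), (1791, [2, 21, 23]), (1792, [3, 12, 15]), (1887, [3, 45, 46]),
    (1893, [12, 55, 59]), (1914, [15, 21, 26]), (1941, [15, 53, 58]), (1962, [3, 29, 30]), (1983, [12, 39, 43]),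
    (2010, [12, 23, 27]), (2031, [15, 37, 42]), (2037, [3, 61, 62]), (2064, [21, 43, 62]), (2080, [27, 46, 53]),
    (2096, [30, 37, 59]), (2112, [23, 42, 61]), (2176, [26, 45, 55]), (2240, [29, 39, 58]), (2304, [3, 12, 15]),
    (2394, [3, 61, 62]), (2415, [12, 23, 27]), (2421, [15, 37, 42]), (2463, [15, 21, 26]), (2469, [3, 45, 46]),
    (2490, [12, 55, 59]), (2517, [12, 39, 43]), (2538, [15, 53, 58]), (2559, [3, 29, 30]), (2560, [1, 8, 9]),
    (2655, [1, 42, 43]), (2661, [8, 53, 61]), (2682, [9, 23, 30]), (2709, [9, 55, 62]), (2730, [1, 26, 27]),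
    (2751, [8, 37, 45]), (2778, [8, 21, 29]), (2799, [9, 39, 46]), (2805, [1, 58, 59]), (2816, [2, 4, 6]),
    (2901, [2, 21, 23]), (2922, [4, 42, 46]), (2943, [6, 59, 61]), (2970, [6, 43, 45]), (2991, [2, 53, 55]),
    (2997, [4, 26, 30]), (3039, [4, 58, 62]), (3045, [6, 27, 29]), (3066, [2, 37, 39]), (3088, [30, 37, 59]),
    (3104, [21, 43, 62]), (3120, [27, 46, 53]), (3136, [29, 39, 58]), (3200, [23, 42, 61]), (3264, [26, 45, 55]),
    (3328, [2, 4, 6]), (3423, [2, 37, 39]), (3429, [4, 58, 62]), (3450, [6, 27, 29]), (3477, [6, 59, 61]),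
    (3498, [2, 21, 23]), (3519, [4, 42, 46]), (3546, [4, 26, 30]), (3567, [6, 43, 45]), (3573, [2, 53, 55]),
    (3584, [3, 12, 15]), (3669, [3, 29, 30]), (3690, [12, 39, 43]), (3711, [15, 53, 58]), (3738, [15, 37, 42]),
    (3759, [3, 61, 62]), (3765, [12, 23, 27]), (3807, [12, 55, 59]), (3813, [15, 21, 26]), (3834, [3, 45, 46]),
    (3840, [1, 8, 9]), (3930, [1, 58, 59]), (3951, [8, 21, 29]), (3957, [9, 39, 46]), (3999, [9, 23, 30]),
    (4005, [1, 42, 43]), (4026, [8, 53, 61]), (4053, [8, 37, 45]), (4074, [9, 55, 62]), (4095, [1, 26, 27])]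

/-- The five generating transvections. -/
def seedCodes : List ℕ := [4005, 2517, 1536, 3546, 832]

/-- The columns of their images. -/
def seedCols : List (List ℕ) := [[1, 3, 46, 9, 17, 32], [42, 37, 8, 4, 28, 32], [3, 2, 4, 12, 16, 32], [27, 6, 4, 12, 16, 36], [58, 23, 42, 29, 5, 14]]

/-- The columns of the image of the field automorphism. -/
def frCols : List ℕ := [1, 3, 15, 9, 16, 48]

/-- Generation of the points by conjugation: point, position of the parent, seed. -/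
def conjRows : List (ℕ × ℕ × ℕ) := [
    (4005, 0, 0), (2517, 1, 1), (1536, 2, 2), (3546, 3, 3), (832, 4, 4), (2469, 0, 2), (1040, 0, 3), (3429, 0, 4),
    (4053, 1, 2), (4026, 1, 3), (2709, 1, 4), (1216, 2, 4), (2080, 3, 0), (2661, 3, 1), (3738, 3, 4), (1722, 4, 0),
    (2112, 4, 2), (112, 5, 1), (528, 5, 3), (2997, 6, 0), (2682, 6, 1), (704, 7, 0), (2778, 7, 1), (2490, 8, 3),
    (3669, 8, 4), (1509, 9, 0), (1647, 9, 1), (3450, 9, 4), (3951, 10, 0), (1941, 10, 2), (288, 10, 3), (2730, 11, 1),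
    (3957, 11, 3), (3999, 12, 1), (800, 12, 2), (1530, 12, 3), (1893, 13, 2), (1983, 13, 3), (3045, 13, 4), (240, 14, 1),
    (1434, 14, 2), (4095, 16, 1), (2816, 16, 4), (3498, 17, 3), (816, 17, 4), (1455, 18, 1), (208, 18, 4), (1503, 19, 1),
    (2421, 19, 4), (1914, 20, 2), (3066, 20, 4), (1407, 21, 1), (2010, 22, 2), (1792, 22, 3), (3136, 23, 0), (2991, 24, 0),
    (2538, 24, 1), (1365, 24, 2), (3120, 25, 1), (3813, 25, 2), (1701, 25, 4), (2031, 26, 4), (2176, 27, 0), (784, 27, 1),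
    (160, 27, 3), (2415, 28, 2), (2304, 28, 3), (2096, 29, 0), (2559, 29, 1), (3104, 29, 3), (2943, 30, 0), (1695, 30, 1),
    (1962, 31, 2), (2463, 33, 2), (3423, 33, 4), (2805, 34, 1), (3834, 34, 3), (96, 34, 4), (2240, 36, 0), (2751, 36, 3),
    (1088, 38, 0), (560, 38, 1), (80, 38, 3), (3711, 41, 4), (1386, 42, 1), (2037, 43, 0), (960, 43, 1), (3759, 45, 2),
    (3807, 47, 2), (3690, 47, 3), (640, 49, 0), (3584, 50, 0), (3477, 50, 3), (544, 52, 0), (2560, 52, 3), (1626, 52, 4),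
    (320, 54, 2), (3840, 54, 4), (3088, 55, 1), (1653, 55, 3), (4074, 56, 2), (1072, 56, 3), (3200, 57, 1), (304, 58, 2),
    (2655, 58, 3), (2394, 59, 1), (2799, 61, 2), (384, 61, 3), (1770, 62, 1), (896, 62, 2), (2064, 63, 2), (3264, 70, 1),
    (3573, 72, 0), (144, 76, 1), (224, 79, 0), (3328, 79, 1), (576, 80, 2), (1056, 83, 0), (2901, 87, 0), (3567, 87, 4),
    (1152, 88, 0), (3930, 90, 3), (448, 90, 4), (1280, 91, 2), (1461, 91, 3), (3519, 94, 1), (1791, 96, 1), (1749, 97, 1),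
    (272, 98, 2), (1887, 103, 3), (176, 103, 4), (3039, 104, 4), (2970, 105, 4), (3765, 112, 4), (2922, 123, 1)]

/-- Singular vectors spanning the space, with two lines meeting in each. -/
def meetRows : List (ℕ × ℕ × ℕ) := [
    (1, 0, 33), (2, 0, 43), (4, 1, 43), (8, 1, 33), (21, 13, 29), (37, 12, 28)]

end CfsgLib.Sporadic.LargeFischer.Explicit
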