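import Cfsg.Agent.Lib.Sporadic.LargeFischer.Explicit.Shape
import Cfsg.Agent.Lib.Sporadic.LargeFischer.Explicit.SixData
import Cfsg.Prelude.Def_Classical
import Cfsg.Agent.S0288

/-!
# The stabiliser of `c2` and the six-dimensional orthogonal group of minus type
-/

set_option autoImplicit false
set_option linter.unusedSectionVars false
set_option maxRecDepth 100000

open Matrix

namespace CfsgLib.Sporadic.LargeFischer.Explicit

/-- The index type of the six-dimensional space. -/
abbrev I6 : Type := (Fin 2 ⊕ Fin 2) ⊕ Fin 2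

/-- The position of an index among the bits. -/
def pos : I6 → ℕ
  | .inl (.inl i) => i.1
  | .inl (.inr i) => 2 + i.1
  | .inr i => 4 + i.1

/-- The vector with the given code. -/
def decW (n : ℕ) : I6 → ZMod 2 := fun i => bit (n.testBit (pos i))

/-- The orthogonal group. -/
abbrev O6 : Subgroup (GL I6 (ZMod 2)) := Cfsg.isometryGroup (ZMod 2) (Cfsg.quadFormMinus 2 (ZMod 2) 1 1)

/-- The matrix with the given columns. -/
def colMat (L : List ℕ) : Matrix I6 I6 (ZMod 2) := fun i j => bit ((L.getD (pos j) 0).testBit (pos i))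

theorem involutions : ∀ L ∈ frCols :: seedCols, colMat L * colMat L = 1 := by decide +kernel

theorem isometries : ∀ L ∈ frCols :: seedCols, ∀ v : I6 → ZMod 2,
    Cfsg.quadFormMinus 2 (ZMod 2) 1 1 (colMat L *ᵥ v) = Cfsg.quadFormMinus 2 (ZMod 2) 1 1 v := by
  decide +kernel

/-- The isometry with the given columns. -/
def colIso (L : List ℕ) (hL : L ∈ frCols :: seedCols) : ↥O6 :=
  ⟨⟨colMat L, colMat L, involutions L hL, involutions L hL⟩, fun u _ => isometries L hL u⟩

/-- The action. -/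
def act (f : ↥O6) (x : I6 → ZMod 2) : I6 → ZMod 2 := ((f : GL I6 (ZMod 2)) : Matrix I6 I6 (ZMod 2)) *ᵥ x

theorem act_mul (f f' : ↥O6) (x : I6 → ZMod 2) : act (f * f') x = act f (act f' x) :=
  (Matrix.mulVec_mulVec x _ _).symm

theorem act_one (x : I6 → ZMod 2) : act 1 x = x := Matrix.one_mulVec x

theorem act_injective (f : ↥O6) : Function.Injective (act f) := fun x y e => by
  have := congrArg (act f⁻¹) e
  rwa [← act_mul, ← act_mul, inv_mul_cancel, act_one, act_one] at this

/-- The line of a row. -/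
def line (e : ℕ × List ℕ) : List (I6 → ZMod 2) := e.2.map decW

/-- `f` follows `g` on the lines. -/
def Rel (g : V6 ≃ₗ[ZMod 2] V6) (f : ↥O6) : Prop :=
  ∀ e ∈ lineRows, ∃ e' ∈ lineRows, g (dec e.1) = dec e'.1 ∧ ∀ x ∈ line e, act f x ∈ line e'

theorem rel_one : Rel 1 1 := fun e he => ⟨e, he, rfl, fun x hx => by rwa [act_one]⟩

theorem Rel.mul {g k : V6 ≃ₗ[ZMod 2] V6} {f f' : ↥O6} (h : Rel g f) (h' : Rel k f') : Rel (g * k) (f * f') := by
  intro e he
  obtain ⟨e1, he1, h1, l1⟩ := h' e he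
  obtain ⟨e2, he2, h2, l2⟩ := h e1 he1
  exact ⟨e2, he2, by rw [LinearEquiv.mul_apply, h1, h2], fun x hx => by rw [act_mul]; exact l2 _ (l1 x hx)⟩

/-- The check for a seed. -/
def relOk (img : V6 → V6) (L : List ℕ) : Bool :=
  lineRows.all fun e => lineRows.any fun e' =>
    code (img (dec e.1)) == e'.1 && e.2.all fun x => e'.2.any fun y => decide (colMat L *ᵥ decW x = decW y)

theorem rel_of_ok {g : V6 ≃ₗ[ZMod 2] V6} {img : V6 → V6} (hg : ∀ v, g v = img v) {L : List ℕ}
    (hL : L ∈ frCols :: seedCols) (h : relOk img L = true) : Rel g (colIso L hL) := by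
  intro e he
  obtain ⟨e', he', h'⟩ := List.any_eq_true.1 (List.all_eq_true.1 h e he)
  simp only [Bool.and_eq_true, beq_iff_eq, List.all_eq_true, List.any_eq_true, decide_eq_true_eq] at h'
  refine ⟨e', he', by rw [hg, ← h'.1, dec_code], fun x hx => ?_⟩
  obtain ⟨n, hn, rfl⟩ := List.mem_map.1 hx
  obtain ⟨y, hy, hxy⟩ := h'.2 n hn
  exact List.mem_map.2 ⟨y, hy, hxy.symm⟩

theorem seed_ok : (List.range 5).all (fun i =>
    inOb (dec (seedCodes.getD i 0)) && relOk (tvFun (dec (seedCodes.getD i 0))) (seedCols.getD i [])) = true := by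
  decide +kernel

theorem fr_ok : relOk (fun v i => fro (v i)) frCols = true := by decide +kernel

theorem rel_seed {i : ℕ} (hi : i < 5) : inOb (dec (seedCodes.getD i 0)) = true ∧
    ∃ f, Rel (tv (dec (seedCodes.getD i 0))) f := by
  have h := List.all_eq_true.1 seed_ok i (List.mem_range.2 hi)
  rw [Bool.and_eq_true] at h
  have hL : seedCols.getD i [] ∈ frCols :: seedCols := by
    refine List.mem_cons_of_mem _ ?_
    rw [List.getD_eq_getElem _ _ (show i < seedCols.length from hi)]
    exact List.getElem_mem _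
  exact ⟨h.1, _, rel_of_ok (tv_apply (herm_of_inOb h.1)) hL h.2⟩

theorem rel_frV : ∃ f, Rel frV f := ⟨_, rel_of_ok (fun _ => rfl) List.mem_cons_self fr_ok⟩

/-- The check for the conjugation table. -/
def conjOk (e : (ℕ × ℕ × ℕ) × ℕ) : Bool :=
  e.1.2.2 < 5 && inOb (dec e.1.1) &&
    if e.2 < 5 then e.1.1 == seedCodes.getD e.2 0
    else e.1.2.1 < e.2 &&
      code (tvFun (dec (seedCodes.getD e.1.2.2 0)) (dec (conjRows.getD e.1.2.1 (0, 0, 0)).1)) == e.1.1

theorem conj_ok : conjRows.zipIdx.all conjOk = true := by decide +kernel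

theorem gens_complete : (List.range 4096).all (fun n =>
    !inOb (dec n) || !(herm (pre 0) (dec n) == 0) || (conjRows.map (·.1)).contains n ||
      n == code c2 || n == code (omV c2) || n == code (omV (omV c2))) = true := by decide +kernel

theorem c2_trivial : lineRows.all (fun e => code (tvFun c2 (dec e.1)) == e.1) = true := by decide +kernel

theorem rel_tv_c2 : Rel (tv c2) 1 := fun e he => by
  refine ⟨e, he, ?_, fun x hx => by rwa [act_one]⟩
  have h := beq_iff_eq.1 (List.all_eq_true.1 c2_trivial e he)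
  rw [tv_apply (herm_of_inOb inOb_c2), ← dec_code (tvFun c2 (dec e.1)), h]

theorem rel_tv {t : V6} (ht : inOb t = true) (h0 : herm (pre 0) t = 0) : ∃ f, Rel (tv t) f := by
  have key : ∀ k, k < conjRows.length → ∃ f, Rel (tv (dec (conjRows.getD k (0, 0, 0)).1)) f := by
    intro k
    induction k using Nat.strong_induction_on with
    | _ k ih =>
      intro hk
      have he := List.all_eq_true.1 conj_ok ((conjRows.getD k (0, 0, 0)), k) (by
        rw [List.mem_zipIdx_iff_getElem?, List.getD_eq_getElem _ _ hk]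
        exact List.getElem?_eq_getElem hk)
      simp only [conjOk, Bool.and_eq_true, decide_eq_true_eq] at he
      obtain ⟨⟨ha, -⟩, he⟩ := he
      by_cases h5 : k < 5
      · rw [if_pos h5] at he
        rw [beq_iff_eq.1 he]
        exact (rel_seed h5).2
      · rw [if_neg h5] at he
        simp only [Bool.and_eq_true, decide_eq_true_eq, beq_iff_eq] at he
        obtain ⟨hp, hc⟩ := he
        obtain ⟨f, hf⟩ := ih _ hp (by omega)
        obtain ⟨has, fa, hfa⟩ := rel_seed ha
        have hq := List.all_eq_true.1 conj_ok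
          ((conjRows.getD (conjRows.getD k (0, 0, 0)).2.1 (0, 0, 0)), (conjRows.getD k (0, 0, 0)).2.1) (by
            rw [List.mem_zipIdx_iff_getElem?, List.getD_eq_getElem _ _ (show _ < conjRows.length by omega)]
            exact List.getElem?_eq_getElem _)
        simp only [conjOk, Bool.and_eq_true, decide_eq_true_eq] at hq
        set a := dec (seedCodes.getD (conjRows.getD k (0, 0, 0)).2.2 0)
        set p := dec (conjRows.getD (conjRows.getD k (0, 0, 0)).2.1 (0, 0, 0)).1
        refine ⟨fa * f * fa, ?_⟩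
        have e := conj_tv (g := tv a) (Or.inl (lin_tv a)) (qs_tv a) (herm_of_inOb (v := p) hq.1.2)
        rw [tv_inv] at e
        rw [← hc, dec_code, ← tv_apply (herm_of_inOb has), ← e]
        exact (hfa.mul hf).mul hfa
  have h := List.all_eq_true.1 gens_complete (code t) (List.mem_range.2 (code_lt t))
  rw [dec_code, ht, h0] at h
  simp only [Bool.not_true, beq_self_eq_true, Bool.false_or, Bool.or_eq_true, beq_iff_eq,
    List.contains_eq_mem, decide_eq_true_eq] at h
  have hc : herm c2 c2 = 0 := herm_of_inOb inOb_c2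
  rcases h with ((h | h) | h) | h
  · obtain ⟨k, hk, hke⟩ := List.getElem_of_mem h
    rw [List.length_map] at hk
    rw [List.getElem_map] at hke
    obtain ⟨f, hf⟩ := key k hk
    rw [List.getD_eq_getElem _ _ hk, hke, dec_code] at hf
    exact ⟨f, hf⟩
  · exact ⟨1, code_injective h ▸ rel_tv_c2⟩
  · refine ⟨1, ?_⟩
    rw [code_injective h, omV_eq, tv_sc (by decide) hc]
    exact rel_tv_c2
  · refine ⟨1, ?_⟩
    rw [code_injective h, ← sc_ww, tv_sc (by decide) hc]
    exact rel_tv_c2

theorem rel_GT {g : V6 ≃ₗ[ZMod 2] V6} (hg : g ∈ GT 1) : ∃ f, Rel g f := by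
  unfold GT at hg
  induction hg using Subgroup.closure_induction_left with
  | one => exact ⟨1, rel_one⟩
  | mul_left x hx y _ ih =>
    obtain ⟨t, ht, h0, rfl⟩ := hx
    obtain ⟨f, hf⟩ := rel_tv ht (h0 0 Nat.one_pos)
    obtain ⟨f', hf'⟩ := ih
    exact ⟨f * f', hf.mul hf'⟩
  | inv_mul_cancel x hx y _ ih =>
    obtain ⟨t, ht, h0, rfl⟩ := hx
    obtain ⟨f, hf⟩ := rel_tv ht (h0 0 Nat.one_pos)
    obtain ⟨f', hf'⟩ := ih
    rw [tv_inv]
    exact ⟨f * f', hf.mul hf'⟩

/-- The data of the meetings. -/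
def meetOk (r : ℕ × ℕ × ℕ) : Bool :=
  let e1 := lineRows.getD r.2.1 (0, [])
  let e2 := lineRows.getD r.2.2 (0, [])
  r.2.1 < lineRows.length && r.2.2 < lineRows.length && e1.2.contains r.1 && e2.2.contains r.1 &&
    e1.2.any (fun x => e2.2.all fun y => !decide (decW x = decW y))

theorem meet_ok : meetRows.all meetOk = true := by decide +kernel

theorem lines_meet : ∀ e ∈ lineRows, e.2.length = 3 ∧ e.2.Nodup ∧ ∀ x ∈ e.2, x < 64 := by decide +kernel

theorem two_lines : lineRows.all (fun e1 => lineRows.all fun e2 =>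
    e1.2 == e2.2 || (e1.2.filter fun x => e2.2.contains x).length ≤ 1) = true := by decide +kernel

theorem meet_span : ∀ v : I6 → ZMod 2, ∃ c : Fin 6 → ZMod 2,
    v = ∑ i, c i • decW (meetRows.getD i.1 (0, 0, 0)).1 := by decide +kernel

theorem decW_inj : ∀ m < 64, ∀ n < 64, decW m = decW n → m = n := by decide +kernel

theorem filter_le_one {L : List ℕ} {p : ℕ → Bool} (h : (L.filter p).length ≤ 1) {a b : ℕ} (ha : a ∈ L)
    (hb : b ∈ L) (pa : p a = true) (pb : p b = true) : a = b := by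
  have ha' := List.mem_filter.2 ⟨ha, pa⟩
  have hb' := List.mem_filter.2 ⟨hb, pb⟩
  generalize L.filter p = M at h ha' hb'
  match M, h, ha', hb' with
  | [], _, ha', _ => simp at ha'
  | [c], _, ha', hb' => simp only [List.mem_singleton] at ha' hb'; rw [ha', hb']
  | _ :: _ :: _, h, _, _ => simp at h

/-- `f` is determined by `g`. -/
theorem Rel.unique {g : V6 ≃ₗ[ZMod 2] V6} {f f' : ↥O6} (h : Rel g f) (h' : Rel g f') : f = f' := by
  classical
  have hdec : ∀ e ∈ lineRows, ∀ e' ∈ lineRows, dec e.1 = dec e'.1 → e = e' := by decide +kernel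
  have hbasis : ∀ r ∈ meetRows, act f (decW r.1) = act f' (decW r.1) := by
    intro r hr
    have hm := List.all_eq_true.1 meet_ok r hr
    simp only [meetOk, Bool.and_eq_true, decide_eq_true_eq, List.contains_eq_mem, List.any_eq_true,
      List.all_eq_true, Bool.not_eq_true', decide_eq_false_iff_not] at hm
    obtain ⟨⟨⟨⟨h1, h2⟩, m1⟩, m2⟩, a, ha, hne⟩ := hm
    set e1 := lineRows.getD r.2.1 (0, []) with he1'
    set e2 := lineRows.getD r.2.2 (0, []) with he2'
    have he1 : e1 ∈ lineRows := by rw [he1', List.getD_eq_getElem _ _ h1]; exact List.getElem_mem _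
    have he2 : e2 ∈ lineRows := by rw [he2', List.getD_eq_getElem _ _ h2]; exact List.getElem_mem _
    obtain ⟨d1, hd1, g1, l1⟩ := h e1 he1
    obtain ⟨d2, hd2, g2, l2⟩ := h e2 he2
    obtain ⟨d1', hd1', g1', l1'⟩ := h' e1 he1
    obtain ⟨d2', hd2', g2', l2'⟩ := h' e2 he2
    rw [hdec _ hd1' _ hd1 (g1'.symm.trans g1)] at l1'
    rw [hdec _ hd2' _ hd2 (g2'.symm.trans g2)] at l2'
    -- the images of the two lines differ
    have hcard : ∀ e ∈ lineRows, (line e).toFinset.card = 3 := by
      intro e he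
      obtain ⟨hl, hn, hlt⟩ := lines_meet e he
      rw [List.toFinset_card_of_nodup, line, List.length_map, hl]
      exact hn.map_on fun x hx y hy exy => decW_inj x (hlt x hx) y (hlt y hy) exy
    have hdiff : line d1 ≠ line d2 := by
      intro e
      have hsub : insert (act f (decW a)) ((line e2).toFinset.image (act f)) ⊆ (line d2).toFinset := by
        intro x hx
        rw [Finset.mem_insert] at hx
        rw [List.mem_toFinset]
        rcases hx with rfl | hx
        · rw [← e]; exact l1 _ (List.mem_map_of_mem ha)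
        · obtain ⟨y, hy, rfl⟩ := Finset.mem_image.1 hx
          exact l2 y (List.mem_toFinset.1 hy)
      have := Finset.card_le_card hsub
      rw [Finset.card_insert_of_notMem, Finset.card_image_of_injective _ (act_injective f), hcard e2 he2,
        hcard d2 hd2] at this
      · omega
      · intro hx
        obtain ⟨y, hy, hya⟩ := Finset.mem_image.1 hx
        obtain ⟨n, hn, rfl⟩ := List.mem_map.1 (List.mem_toFinset.1 hy)
        exact hne n hn (act_injective f hya).symm
    have k1 := l1 _ (List.mem_map_of_mem m1)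
    have k2 := l2 _ (List.mem_map_of_mem m2)
    have k1' := l1' _ (List.mem_map_of_mem m1)
    have k2' := l2' _ (List.mem_map_of_mem m2)
    obtain ⟨x, hx, ex⟩ := List.mem_map.1 k1
    obtain ⟨y, hy, ey⟩ := List.mem_map.1 k2
    obtain ⟨x', hx', ex'⟩ := List.mem_map.1 k1'
    obtain ⟨y', hy', ey'⟩ := List.mem_map.1 k2'
    have hlt1 := (lines_meet d1 hd1).2.2
    have hlt2 := (lines_meet d2 hd2).2.2
    have exy : x = y := decW_inj x (hlt1 x hx) y (hlt2 y hy) (ex.trans ey.symm)
    have exy' : x' = y' := decW_inj x' (hlt1 x' hx') y' (hlt2 y' hy') (ex'.trans ey'.symm)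
    have htwo := List.all_eq_true.1 (List.all_eq_true.1 two_lines d1 hd1) d2 hd2
    simp only [Bool.or_eq_true, beq_iff_eq, decide_eq_true_eq] at htwo
    rcases htwo with htwo | htwo
    · exact absurd (congrArg (List.map decW) htwo) hdiff
    have := filter_le_one htwo hx hx' (by simpa [exy] using hy) (by simpa [exy'] using hy')
    rw [← ex, ← ex', this]
  apply Subtype.ext
  apply Units.ext
  refine Matrix.toLin'.injective (LinearMap.ext fun v => ?_)
  simp only [Matrix.toLin'_apply]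
  obtain ⟨c, rfl⟩ := meet_span v
  simp only [Matrix.mulVec_sum, Matrix.mulVec_smul]
  refine Finset.sum_congr rfl fun i _ => ?_
  congr 1
  refine hbasis _ ?_
  rw [List.getD_eq_getElem _ _ (show i.1 < meetRows.length from i.2)]
  exact List.getElem_mem _

theorem frV_c2 : frV c2 = c2 := by decide +kernel

theorem fro_lineRows : lineRows.all (fun e => lineRows.any fun e' => code (fun i => fro (dec e.1 i)) == e'.1) = true := by
  decide +kernel

theorem scalar_of_line : lineRows.all (fun e => lineRows.all fun e' =>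
    !(e.2.all fun x => e'.2.contains x) || code (dec e.1) == e'.1 || code (omV (dec e.1)) == e'.1 ||
      code (omV (omV (dec e.1))) == e'.1) = true := by decide +kernel

/-- The three nonzero scalars. -/
def units4 : List D4 := [(1, 0), (0, 1), (1, 1)]

theorem scalar_of_rel_one {g : V6 ≃ₗ[ZMod 2] V6} (h : Rel g 1) {v : V6} (hv : code v ∈ lineRows.map (·.1)) :
    ∃ c ∈ units4, g v = sc c v := by
  obtain ⟨e, he, hev⟩ := List.mem_map.1 hv
  obtain ⟨e', he', hg, hl⟩ := h e he
  rw [hev, dec_code] at hg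
  have hs := List.all_eq_true.1 (List.all_eq_true.1 scalar_of_line e he) e' he'
  have hsub : (e.2.all fun x => e'.2.contains x) = true := List.all_eq_true.2 fun x hx => by
    have := hl _ (List.mem_map_of_mem hx)
    rw [act_one] at this
    obtain ⟨y, hy, hyx⟩ := List.mem_map.1 this
    rw [decW_inj y ((lines_meet e' he').2.2 y hy) x ((lines_meet e he).2.2 x hx) hyx] at hy
    simpa using hy
  rw [hsub, hev, dec_code] at hs
  simp only [Bool.not_true, Bool.false_or, Bool.or_eq_true, beq_iff_eq] at hs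
  rcases hs with (hs | hs) | hs
  · exact ⟨(1, 0), by decide, by rw [hg, ← hs, dec_code, sc_one]⟩
  · exact ⟨(0, 1), by decide, by rw [hg, ← hs, dec_code, omV_eq]⟩
  · exact ⟨(1, 1), by decide, by rw [hg, ← hs, dec_code, sc_ww]⟩

/-- The relations satisfied by the images of the first five base vectors. -/
def passes (x1 x2 x3 x4 : V6) : Bool :=
  !inOb (x1 + c2) && !inOb (x1 + sc (0, 1) c2) &&
    (herm x2 x1 == herm (pre 2) (pre 1)) && (herm x3 x1 == herm (pre 3) (pre 1)) &&
    (herm x3 x2 == herm (pre 3) (pre 2)) && (herm x4 x1 == herm (pre 4) (pre 1)) &&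
    (herm x4 x2 == herm (pre 4) (pre 2)) && (herm x4 x3 == herm (pre 4) (pre 3)) &&
    inOb (x4 + c2 + x2 + sc (0, 1) x3)

theorem passes_image {g : V6 ≃ₗ[ZMod 2] V6} (hg : g ∈ Fx 1) :
    passes (g (pre 1)) (g (pre 2)) (g (pre 3)) (g (pre 4)) = true := by
  obtain ⟨⟨hl, hq, hO⟩, hfix⟩ := hg
  have e0 : g c2 = c2 := pre_zero ▸ hfix 0 Nat.one_pos
  have e1 : g (pre 1) + c2 = g (pre 1 + c2) := by rw [map_add, e0]
  have e2 : g (pre 1) + sc (0, 1) c2 = g (pre 1 + sc (0, 1) c2) := by rw [map_add, hl.sc, e0]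
  have e3 : g (pre 4) + c2 + g (pre 2) + sc (0, 1) (g (pre 3)) = g (pre 4 + c2 + pre 2 + sc (0, 1) (pre 3)) := by
    rw [map_add, map_add, map_add, hl.sc, e0]
  unfold passes
  rw [e1, e2, e3, hO, hO, hO]
  simp only [hl.herm hq, beq_self_eq_true, Bool.and_true]
  decide +kernel

theorem passes_scalar : ∀ a ∈ units4, ∀ b ∈ units4, ∀ c ∈ units4, ∀ d ∈ units4,
    (passes (sc a (pre 1)) (sc b (pre 2)) (sc c (pre 3)) (sc d (pre 4)) = true →
      a = (1, 0) ∧ b = (1, 0) ∧ c = (1, 0) ∧ d = (1, 0)) ∧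
    passes (sc a (frV (pre 1))) (sc b (frV (pre 2))) (sc c (frV (pre 3))) (sc d (frV (pre 4))) = false := by
  decide +kernel

theorem base_rows : ∀ i < 5, 1 ≤ i → code (pre i) ∈ lineRows.map (·.1) ∧
    code (frV (pre i)) ∈ lineRows.map (·.1) := by decide +kernel

theorem last_level : children 5 = [code (pre 5), code (tvFun c2 (pre 5))] := by decide +kernel

theorem herm_pre_c2 : ∀ j < 5, herm (pre j) c2 = 0 := by decide +kernel

section
variable (hT : ∀ t, inOb t = true → tv t ∈ AL)
include hT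

theorem rel_kernel_lin {g : V6 ≃ₗ[ZMod 2] V6} (hg : g ∈ Fx 1) (h : Rel g 1) : g = 1 ∨ g = tv c2 := by
  obtain ⟨a, ha, ea⟩ := scalar_of_rel_one h (base_rows 1 (by omega) le_rfl).1
  obtain ⟨b, hb, eb⟩ := scalar_of_rel_one h (base_rows 2 (by omega) (by omega)).1
  obtain ⟨c, hc, ec⟩ := scalar_of_rel_one h (base_rows 3 (by omega) (by omega)).1
  obtain ⟨d, hd, ed⟩ := scalar_of_rel_one h (base_rows 4 (by omega) (by omega)).1
  have hp := passes_image hg
  rw [ea, eb, ec, ed] at hp
  obtain ⟨rfl, rfl, rfl, rfl⟩ := (passes_scalar a ha b hb c hc d hd).1 hp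
  have h5 : g ∈ Fx 5 := ⟨hg.1, fun j hj => by
    interval_cases j
    · exact hg.2 0 Nat.one_pos
    · rw [ea, sc_one]
    · rw [eb, sc_one]
    · rw [ec, sc_one]
    · rw [ed, sc_one]⟩
  have h6 := cand_image (i := 5) (by omega) h5
  rw [last_level, List.mem_cons, List.mem_singleton] at h6
  rcases h6 with e | e
  · refine Or.inl (eq_one_of_fix h5.1.1 fun j hj => ?_)
    rcases Nat.lt_succ_iff_lt_or_eq.1 hj with hj | rfl
    · exact h5.2 j hj
    · exact code_injective e
  · refine Or.inr ?_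
    have hh := herm_of_inOb inOb_c2
    have h6' : tv c2 * g = 1 := by
      refine eq_one_of_fix ((lin_tv c2).mul h5.1.1) fun j hj => ?_
      rcases Nat.lt_succ_iff_lt_or_eq.1 hj with hj | rfl
      · rw [LinearEquiv.mul_apply, h5.2 j hj, tv_apply hh, tvFun, herm_pre_c2 j hj, sc_zero, add_zero]
      · rw [LinearEquiv.mul_apply, code_injective e, tv_apply hh, tvFun_tvFun hh]
    rw [eq_inv_of_mul_eq_one_right h6', tv_inv]

end

namespace Std

variable {K : Subgroup (V6 ≃ₗ[ZMod 2] V6)} (h : Std K)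
include h

/-- The stabiliser of `c2`. -/
def stab (_h : Std K) : Subgroup (V6 ≃ₗ[ZMod 2] V6) where
  carrier := {g | g ∈ K ∧ g c2 = c2}
  one_mem' := ⟨one_mem _, rfl⟩
  mul_mem' := fun {g k} hg hk => ⟨mul_mem hg.1 hk.1, by show g (k c2) = c2; rw [hk.2, hg.2]⟩
  inv_mem' := fun {g} hg => ⟨inv_mem hg.1, by show g.symm c2 = c2; rw [g.symm_apply_eq, hg.2]⟩

theorem split {g : V6 ≃ₗ[ZMod 2] V6} (hg : g ∈ h.stab) :
    (Lin g ∧ g ∈ Fx 1) ∨ (Anti g ∧ g * frV ∈ Fx 1) := by
  have hfix : ∀ k : V6 ≃ₗ[ZMod 2] V6, k c2 = c2 → ∀ j < 1, k (pre j) = pre j := fun k hk j hj => by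
    rw [show j = 0 by omega, pre_zero, hk]
  rcases h.model.scal g hg.1 with e | e
  · exact Or.inl ⟨e, h.mem_AL hg.1 e, hfix g hg.2⟩
  · refine Or.inr ⟨e, ⟨fun v => ?_, fun v => ?_, fun v => ?_⟩, hfix _ ?_⟩
    · show g (frV (omV v)) = omV (g (frV v))
      rw [anti_frV, e, e]
      simp only [omV_cube]
    · rw [LinearEquiv.mul_apply, h.model.quad g hg.1, qs_frV]
    · rw [LinearEquiv.mul_apply, h.inOb_map hg.1, inOb_frV]
    · rw [LinearEquiv.mul_apply, frV_c2, hg.2]

theorem exists_rel (g : ↥h.stab) : ∃ f, Rel (g : V6 ≃ₗ[ZMod 2] V6) f := by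
  rcases h.split g.2 with ⟨-, hl⟩ | ⟨-, ha⟩
  · exact rel_GT ((Fx_eq h.tv_mem (by omega : 1 ≤ 6)) ▸ hl)
  · obtain ⟨f, hf⟩ := rel_GT ((Fx_eq h.tv_mem (by omega : 1 ≤ 6)) ▸ ha)
    obtain ⟨f', hf'⟩ := rel_frV
    refine ⟨f * f', ?_⟩
    have := hf.mul hf'
    rwa [mul_assoc, show frV * frV = 1 from LinearEquiv.ext fun v => frV.left_inv v, mul_one] at this

/-- The homomorphism onto the orthogonal group. -/
noncomputable def toO6 : ↥h.stab →* ↥O6 where
  toFun g := (h.exists_rel g).choose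
  map_one' := (h.exists_rel 1).choose_spec.unique rel_one
  map_mul' a b := (h.exists_rel (a * b)).choose_spec.unique ((h.exists_rel a).choose_spec.mul (h.exists_rel b).choose_spec)

theorem toO6_injective (hs : ¬ ∀ g ∈ K, Lin g) : Function.Injective h.toO6 := by
  refine (injective_iff_map_eq_one _).2 fun g hg => Subtype.ext ?_
  have hrel : Rel (g : V6 ≃ₗ[ZMod 2] V6) 1 := hg ▸ (h.exists_rel g).choose_spec
  rcases h.split g.2 with ⟨-, hl⟩ | ⟨ha, hl⟩
  · rcases rel_kernel_lin h.tv_mem hl hrel with e | e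
    · exact e
    · exact absurd (e ▸ g.2.1) (h.tv_not_mem hs)
  · exfalso
    have hsc : ∀ i, 1 ≤ i → i < 5 → ∃ c ∈ units4, ((g : V6 ≃ₗ[ZMod 2] V6) * frV) (pre i) = sc c (frV (pre i)) :=
      fun i h1 h2 => scalar_of_rel_one hrel (base_rows i h2 h1).2
    obtain ⟨a, ha', ea⟩ := hsc 1 le_rfl (by omega)
    obtain ⟨b, hb, eb⟩ := hsc 2 (by omega) (by omega)
    obtain ⟨c, hc, ec⟩ := hsc 3 (by omega) (by omega)
    obtain ⟨d, hd, ed⟩ := hsc 4 (by omega) (by omega)
    have hp := passes_image hl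
    rw [ea, eb, ec, ed, (passes_scalar a ha' b hb c hc d hd).2] at hp
    exact Bool.false_ne_true hp

theorem card_stab : Nat.card ↥h.stab = 51840 := by
  classical
  haveI := h.model.finite_K
  letI : MulAction ↥K V6 :=
    { smul := fun g v => (g : V6 ≃ₗ[ZMod 2] V6) v, one_smul := fun _ => rfl, mul_smul := fun _ _ _ => rfl }
  have horb : MulAction.orbit ↥K c2 = ↑(h.model.orb c2) := by
    ext x
    rw [Finset.mem_coe, h.model.mem_orb]
    exact ⟨fun ⟨g, e⟩ => ⟨g, g.2, e⟩, fun ⟨g, hg, e⟩ => ⟨⟨g, hg⟩, e⟩⟩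
  have hst : MulAction.stabilizer ↥K c2 = h.stab.subgroupOf K := by
    ext g
    rw [Subgroup.mem_subgroupOf, MulAction.mem_stabilizer_iff]
    exact ⟨fun e => ⟨g.2, e⟩, fun e => e.2⟩
  have hc := (MulAction.stabilizer ↥K c2).card_mul_index
  rw [MulAction.index_stabilizer, horb, hst, Set.ncard_coe_finset, h.model.two_orbits.2.1,
    Nat.card_congr (Subgroup.subgroupOfEquivOfLe (fun g hg => hg.1 : h.stab ≤ K)).toEquiv, h.model.card] at hc
  omega

omit h in
theorem card_O6 : Nat.card ↥O6 = 51840 := by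
  have hab : ∀ a b : ZMod 2, a ^ 2 + 1 * a * b + 1 * b ^ 2 = 0 → a = 0 ∧ b = 0 := by decide
  rw [show Nat.card ↥O6 = _ from Cfsg.Agent.S0288.result (F := ZMod 2) (ZMod.card 2) 3 (by omega) 1 1 hab]
  decide +kernel

/-- The stabiliser of `c2` in a semilinear model. -/
theorem stab_iso (hs : ¬ ∀ g ∈ K, Lin g) : Nonempty (↥h.stab ≃* ↥O6) := by
  refine ⟨MulEquiv.ofBijective h.toO6 ((Nat.bijective_iff_injective_and_card _).2 ⟨h.toO6_injective hs, ?_⟩)⟩
  rw [h.card_stab, card_O6]

end Std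

end CfsgLib.Sporadic.LargeFischer.Explicit
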