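import Cfsg.Agent.Lib.Sporadic.LargeFischer.Explicit.SylowTable

/-!
# Elementary abelian subgroups of the tabulated Sylow subgroup
-/

set_option autoImplicit false
set_option linter.unusedSectionVars false
set_option maxRecDepth 100000

namespace CfsgLib.Sporadic.LargeFischer.Explicit

theorem gen_mem_cols {i : ℕ} (hi : i < 6) : cols (sylGen i) = pairCols (sylGens.getD i (0, 0)) :=
  cols_pairMap (gens_ok i hi).1 (gens_ok i hi).2

theorem sylGen_inv (i : ℕ) : (sylGen i)⁻¹ = tv (dec (sylGens.getD i (0, 0)).2) * tv (dec (sylGens.getD i (0, 0)).1) := by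
  rw [sylGen, pairMap, mul_inv_rev, tv_inv, tv_inv]

theorem closure_cols {s : Set (V6 ≃ₗ[ZMod 2] V6)} {T : List (List ℕ)}
    (h1 : T.contains colsOne = true) (hs : ∀ x ∈ s, ∀ L ∈ T, colsComp L (cols x) ∈ T)
    {g : V6 ≃ₗ[ZMod 2] V6} (hg : g ∈ Subgroup.closure s) : cols g ∈ T := by
  have h2 : g ∈ Submonoid.closure s := by
    haveI : Finite (V6 ≃ₗ[ZMod 2] V6) := Finite.of_injective _ DFunLike.coe_injective
    have e : (Subgroup.closure s).toSubmonoid = Submonoid.closure s :=
      Subgroup.closure_toSubmonoid_of_finite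
    rw [← e]; exact hg
  clear hg
  induction h2 using Submonoid.closure_induction_right with
  | one => rw [cols_one]; simpa using h1
  | mul_right x _ y hy ih => rw [cols_mul]; exact hs y hy _ ih

theorem syl_cols {g : V6 ≃ₗ[ZMod 2] V6} (hg : g ∈ sylGroup) : cols g ∈ sylElts := by
  refine closure_cols ?_ ?_ hg
  · rw [← table_ok.2.1]
    simp only [List.contains_eq_mem, decide_eq_true_eq]
    rw [List.getD_eq_getElem _ _ (by rw [table_ok.2.2.2.2]; norm_num)]
    exact List.getElem_mem _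
  · rintro _ ⟨i, hi, rfl⟩ L hL
    rw [gen_mem_cols hi]
    simpa using List.all_eq_true.1 (List.all_eq_true.1 table_ok.2.2.1 L hL) i (List.mem_range.2 hi)

theorem plane_cols {g : V6 ≃ₗ[ZMod 2] V6} (hg : g ∈ planeGroup) : cols g ∈ planeElts := by
  refine closure_cols plane_table_ok.1 ?_ hg
  rintro _ ⟨i, hi, rfl⟩ L hL
  rw [gen_mem_cols (by omega)]
  simpa using List.all_eq_true.1 (List.all_eq_true.1 plane_table_ok.2.1 L hL) i (List.mem_range.2 hi)

theorem syl_reach : ∀ L ∈ sylElts, ∃ g ∈ sylGroup, cols g = L := by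
  have key : ∀ k, k < sylElts.length → ∃ g ∈ sylGroup, cols g = sylElts.getD k [] := by
    intro k
    induction k using Nat.strong_induction_on with
    | _ k ih =>
      intro hk
      have he := List.all_eq_true.1 table_ok.1 ((sylElts.getD k []), k) (by
        rw [List.mem_zipIdx_iff_getElem?, List.getD_eq_getElem _ _ hk]
        exact List.getElem?_eq_getElem hk)
      by_cases h0 : k = 0
      · exact ⟨1, one_mem _, by rw [cols_one, h0, table_ok.2.1]⟩
      · rw [if_neg h0] at he
        simp only [Bool.and_eq_true, decide_eq_true_eq, beq_iff_eq] at he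
        obtain ⟨⟨hp, hi⟩, he⟩ := he
        obtain ⟨g, hg, hgc⟩ := ih _ hp (by omega)
        refine ⟨g * sylGen (sylRows.getD k (0, 0)).2, mul_mem hg (Subgroup.subset_closure ⟨_, hi, rfl⟩), ?_⟩
        rw [cols_mul, hgc, gen_mem_cols hi, ← he]
  intro L hL
  obtain ⟨k, hk, rfl⟩ := List.getElem_of_mem hL
  obtain ⟨g, hg, e⟩ := key k hk
  exact ⟨g, hg, e.trans (List.getD_eq_getElem _ _ hk)⟩

theorem card_sylGroup : Nat.card sylGroup = 128 := by
  classical
  have e : cols '' (sylGroup : Set (V6 ≃ₗ[ZMod 2] V6)) = ↑sylElts.toFinset := by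
    ext L
    rw [Finset.mem_coe, List.mem_toFinset]
    exact ⟨fun ⟨g, hg, e⟩ => e ▸ syl_cols hg, fun hL => syl_reach L hL⟩
  rw [← SetLike.coe_sort_coe, Nat.card_coe_set_eq, ← Set.ncard_image_of_injective _ cols_injective, e,
    Set.ncard_coe_finset, List.toFinset_card_of_nodup table_ok.2.2.2.1, table_ok.2.2.2.2]

theorem inv_mem_list {g : V6 ≃ₗ[ZMod 2] V6} (hg : g ∈ sylGroup) (h1 : g ≠ 1) (h2 : g * g = 1) : cols g ∈ sylInvs := by
  have hf : cols g ∈ sylElts.filter fun L => !(L == colsOne) && colsComp L L == colsOne := by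
    rw [List.mem_filter]
    refine ⟨syl_cols hg, ?_⟩
    rw [← cols_mul, h2, cols_one]
    simp only [beq_self_eq_true, Bool.and_true, Bool.not_eq_true']
    exact beq_eq_false_iff_ne.2 fun e => h1 (cols_injective (e.trans cols_one.symm))
  simpa using List.all_eq_true.1 invs_ok _ hf

/-- The other elements of `F` satisfy `p`. -/
theorem card_le_filter {F : Subgroup (V6 ≃ₗ[ZMod 2] V6)} {a : V6 ≃ₗ[ZMod 2] V6} (p : List ℕ → Bool)
    (hF : ∀ g ∈ F, g ≠ 1 → g ≠ a → cols g ∈ sylInvs ∧ p (cols g) = true) :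
    Nat.card F ≤ (sylInvs.filter p).length + 2 := by
  classical
  haveI : Finite (V6 ≃ₗ[ZMod 2] V6) := Finite.of_injective _ DFunLike.coe_injective
  rw [← SetLike.coe_sort_coe, Nat.card_coe_set_eq, ← Set.ncard_image_of_injective _ cols_injective]
  refine (Set.ncard_le_ncard (t := ↑((sylInvs.filter p).toFinset ∪ {cols 1, cols a})) ?_ (Finset.finite_toSet _)).trans ?_
  · rintro _ ⟨g, hg, rfl⟩
    rw [Finset.mem_coe, Finset.mem_union, List.mem_toFinset, List.mem_filter]
    by_cases e1 : g = 1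
    · subst e1; simp
    by_cases ea : g = a
    · subst ea; simp
    exact Or.inl (hF g hg e1 ea)
  · rw [Set.ncard_coe_finset]
    exact (Finset.card_union_le _ _).trans
      (Nat.add_le_add (List.toFinset_card_le _) Finset.card_le_two)

/-- An elementary abelian subgroup has order less than 32. -/
theorem card_lt {F : Subgroup (V6 ≃ₗ[ZMod 2] V6)} (hF : F ≤ sylGroup) (hc : ∀ a ∈ F, ∀ b ∈ F, a * b = b * a)
    (hs : ∀ a ∈ F, a * a = 1) : Nat.card F < 32 := by
  classical
  by_contra hge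
  push Not at hge
  have key : ∀ a ∈ F, a ≠ 1 → cols a ∈ sylInvs.filter fun L =>
      30 ≤ (sylInvs.filter fun M => !(M == L) && commB L M).length := by
    intro a ha ha1
    rw [List.mem_filter]
    refine ⟨inv_mem_list (hF ha) ha1 (hs a ha), decide_eq_true ?_⟩
    have := card_le_filter (a := a) (fun M => !(M == cols a) && commB (cols a) M) (F := F) fun g hg h1 hga =>
      ⟨inv_mem_list (hF hg) h1 (hs g hg), by
        rw [Bool.and_eq_true, commB, ← cols_mul, ← cols_mul, hc a ha g hg]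
        exact ⟨by simpa using fun e => hga (cols_injective e), beq_self_eq_true _⟩⟩
    omega
  have h2 : Nat.card F ≤ 2 := by
    haveI : Finite (V6 ≃ₗ[ZMod 2] V6) := Finite.of_injective _ DFunLike.coe_injective
    rw [← SetLike.coe_sort_coe, Nat.card_coe_set_eq, ← Set.ncard_image_of_injective _ cols_injective]
    refine (Set.ncard_le_ncard (t := ↑(insert (cols 1) (sylInvs.filter fun L =>
      30 ≤ (sylInvs.filter fun M => !(M == L) && commB L M).length).toFinset)) ?_ (Finset.finite_toSet _)).trans ?_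
    · rintro _ ⟨g, hg, rfl⟩
      rw [Finset.mem_coe, Finset.mem_insert, List.mem_toFinset]
      by_cases e1 : g = 1
      · exact Or.inl (by rw [e1])
      · exact Or.inr (key g hg e1)
    · rw [Set.ncard_coe_finset]
      exact (Finset.card_insert_le _ _).trans (Nat.add_le_add_right ((List.toFinset_card_le _).trans few_commuting) 1)
  omega

theorem fix_perp {e : V6 ≃ₗ[ZMod 2] V6} (hq : ∀ v, qs (e v) = qs v) (W : AddSubgroup V6) (hW : ∀ w ∈ W, qs w = 0)
    (h64 : Nat.card W = 64) (hfix : ∀ w ∈ W, e w = w) (v : V6) : e v + v ∈ W := by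
  refine perp_mem W hW h64 fun r hr => ?_
  have hb : bs (e v) (e r) = bs v r := bs_preserved hq v r
  rw [hfix r hr] at hb
  rw [bs_comm, bs_add, bs_comm r (e v), bs_comm r v, hb, CharTwo.add_self_eq_zero]

/-- An elementary abelian subgroup of order 16 fixing a totally singular subgroup of order 64 is the plane group. -/
theorem mem_plane {F : Subgroup (V6 ≃ₗ[ZMod 2] V6)} (hF : F ≤ sylGroup) (hc : ∀ a ∈ F, ∀ b ∈ F, a * b = b * a)
    (hs : ∀ a ∈ F, a * a = 1) (h16 : 16 ≤ Nat.card F) (hq : ∀ a ∈ F, ∀ v, qs (a v) = qs v) (W : AddSubgroup V6)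
    (hW : ∀ w ∈ W, qs w = 0) (h64 : Nat.card W = 64) (hfix : ∀ a ∈ F, ∀ w ∈ W, a w = w) {a : V6 ≃ₗ[ZMod 2] V6}
    (ha : a ∈ F) (ha1 : a ≠ 1) : cols a ∈ planeElts := by
  have hfixB : ∀ a ∈ F, ∀ b ∈ F, fixB (cols a) (cols b) = true := by
    intro a ha b hb
    refine List.all_eq_true.2 fun i hi => beq_iff_eq.2 ?_
    have hi' := List.mem_range.1 hi
    have hlt : 2 ^ i < 4096 := by
      have := Nat.pow_lt_pow_right (show 1 < 2 by norm_num) hi'; omega
    have hcol : (cols b).getD i 0 = code (b (dec (2 ^ i))) := by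
      unfold cols
      rw [List.getD_eq_getElem _ _ (by simpa using hi'), List.getElem_map, List.getElem_range]
    have hd : dec ((cols b).getD i 0 ^^^ 2 ^ i) = b (dec (2 ^ i)) + dec (2 ^ i) := by
      rw [dec_xor, hcol, dec_code]
    have hx : (cols b).getD i 0 ^^^ 2 ^ i < 4096 :=
      Nat.xor_lt_two_pow (n := 12) (by rw [hcol]; exact code_lt _) hlt
    have e := code_apply a (dec ((cols b).getD i 0 ^^^ 2 ^ i))
    rw [code_dec hx, hfix a ha _ (by rw [hd]; exact fix_perp (hq b hb) W hW h64 (hfix b hb) _), code_dec hx] at e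
    exact e.symm
  have h := List.all_eq_true.1 clique_plane (cols a) (inv_mem_list (hF ha) ha1 (hs a ha))
  rw [Bool.or_eq_true, decide_eq_true_eq] at h
  rcases h with h | h
  · exfalso
    have := card_le_filter (a := a)
      (fun M => !(M == cols a) && commB (cols a) M && fixB (cols a) M && fixB M (cols a)) (F := F) fun g hg h1 hga =>
      ⟨inv_mem_list (hF hg) h1 (hs g hg), by
        rw [hfixB a ha g hg, hfixB g hg a ha, Bool.and_true, Bool.and_true, Bool.and_eq_true, commB, ← cols_mul,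
          ← cols_mul, hc a ha g hg]
        exact ⟨by simpa using fun e => hga (cols_injective e), beq_self_eq_true _⟩⟩
    omega
  · simpa using h

theorem cols_getD (g : V6 ≃ₗ[ZMod 2] V6) {b : ℕ} (hb : b < 12) : (cols g).getD b 0 = code (g (dec (2 ^ b))) := by
  unfold cols
  rw [List.getD_eq_getElem _ _ (by simpa using hb), List.getElem_map, List.getElem_range]

theorem fold_span (S : AddSubgroup V6) (M : List ℕ) : ∀ (l : List ℕ),
    (∀ b ∈ l, dec (M.getD b 0 ^^^ 2 ^ b) ∈ S) → ∀ acc : List ℕ, (∀ a ∈ acc, dec a ∈ S) →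
    ∀ a ∈ l.foldl (fun acc b => if acc.contains (M.getD b 0 ^^^ 2 ^ b) then acc
      else acc ++ acc.map (fun a => a ^^^ (M.getD b 0 ^^^ 2 ^ b))) acc, dec a ∈ S
  | [], _, _, hacc => hacc
  | b :: l, hl, acc, hacc => by
    rw [List.foldl_cons]
    refine fold_span S M l (fun c hc => hl c (List.mem_cons_of_mem _ hc)) _ fun a ha => ?_
    split_ifs at ha
    · exact hacc a ha
    · rcases List.mem_append.1 ha with ha | ha
      · exact hacc a ha
      · obtain ⟨c, hc, rfl⟩ := List.mem_map.1 ha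
        rw [dec_xor]
        exact add_mem (hacc c hc) (hl b List.mem_cons_self)

theorem dec_mem_span (S : AddSubgroup V6) (M : List ℕ) (hl : ∀ b < 12, dec (M.getD b 0 ^^^ 2 ^ b) ∈ S) :
    ∀ a ∈ imgSpan M, dec a ∈ S := by
  unfold imgSpan
  refine fold_span S M (List.range 12) (fun b hb => hl b (List.mem_range.1 hb)) [0] fun a ha => ?_
  rw [List.mem_singleton.1 ha, dec_zero]
  exact zero_mem _

theorem card_V6 : Nat.card V6 = 4096 := by
  have e : Finset.univ.card (α := V6) = 4096 := by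
    simp only [Finset.card_univ, Fintype.card_fun, Fintype.card_prod, ZMod.card, Fintype.card_fin]
    norm_num
  rw [Nat.card_eq_fintype_card, ← Finset.card_univ, e]

/-- An involution of the Sylow subgroup fixes at most 256 vectors. -/
theorem fixed_le {g : V6 ≃ₗ[ZMod 2] V6} (hg : g ∈ sylGroup) (h1 : g ≠ 1) (h2 : g * g = 1) (X : AddSubgroup V6)
    (hX : ∀ v ∈ X, g v = v) : Nat.card X ≤ 256 := by
  classical
  have hL := inv_mem_list hg h1 h2
  have hb := List.all_eq_true.1 img_big _ hL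
  simp only [Bool.and_eq_true, decide_eq_true_eq] at hb
  obtain ⟨⟨h16, hnd⟩, hlt⟩ := hb
  let φ : V6 →+ V6 := AddMonoidHom.mk' (fun v => g v + v) fun u v => by rw [map_add]; abel
  have hspan : ∀ a ∈ imgSpan (cols g), dec a ∈ φ.range := by
    refine fun a ha => dec_mem_span φ.range (cols g) (fun b hb => ?_) a ha
    rw [dec_xor, cols_getD g hb, dec_code]
    exact ⟨dec (2 ^ b), rfl⟩
  have hrange : 16 ≤ Nat.card φ.range := by
    refine le_trans h16 ?_
    rw [← SetLike.coe_sort_coe, Nat.card_coe_set_eq, ← List.toFinset_card_of_nodup hnd,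
      ← Finset.card_image_of_injOn (f := dec) (fun a ha b hb e => ?_), ← Set.ncard_coe_finset]
    · refine Set.ncard_le_ncard (fun v hv => ?_) (Set.toFinite _)
      obtain ⟨a, ha, rfl⟩ := Finset.mem_image.1 hv
      exact hspan a (List.mem_toFinset.1 ha)
    · have la := List.all_eq_true.1 hlt a (List.mem_toFinset.1 ha)
      have lb := List.all_eq_true.1 hlt b (List.mem_toFinset.1 hb)
      rw [decide_eq_true_eq] at la lb
      rw [← code_dec la, e, code_dec lb]
  have h := φ.ker.card_mul_index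
  rw [AddSubgroup.index_ker, card_V6] at h
  have hle : Nat.card X ≤ Nat.card φ.ker := by
    refine Nat.card_le_card_of_injective (fun v : X => (⟨v, ?_⟩ : φ.ker)) fun a b e => Subtype.ext (congrArg (fun w : φ.ker => (w : V6)) e)
    show g (v : V6) + (v : V6) = 0
    rw [hX v v.2]
    exact funext fun i => CharTwo.add_self_eq_zero _
  have hk : Nat.card φ.ker * 16 ≤ 4096 := (Nat.mul_le_mul_left _ hrange).trans (le_of_eq h)
  clear h16 hnd hlt hspan hL
  omega

theorem plane_reach : ∀ L ∈ planeElts, ∃ g ∈ planeGroup, cols g = L := by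
  have hdata : planeElts.all (fun L => [(0, 0, 0, 0), (0, 0, 0, 1), (0, 0, 1, 0), (0, 0, 1, 1), (0, 1, 0, 0),
      (0, 1, 0, 1), (0, 1, 1, 0), (0, 1, 1, 1), (1, 0, 0, 0), (1, 0, 0, 1), (1, 0, 1, 0), (1, 0, 1, 1), (1, 1, 0, 0),
      (1, 1, 0, 1), (1, 1, 1, 0), (1, 1, 1, 1)].any fun c : ℕ × ℕ × ℕ × ℕ =>
    L == colsComp (if c.1 = 1 then pairCols (sylGens.getD 0 (0, 0)) else colsOne)
      (colsComp (if c.2.1 = 1 then pairCols (sylGens.getD 1 (0, 0)) else colsOne)
        (colsComp (if c.2.2.1 = 1 then pairCols (sylGens.getD 2 (0, 0)) else colsOne)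
          (if c.2.2.2 = 1 then pairCols (sylGens.getD 3 (0, 0)) else colsOne)))) = true := by decide +kernel
  intro L hL
  obtain ⟨c, -, hc⟩ := List.any_eq_true.1 (List.all_eq_true.1 hdata L hL)
  have hpick : ∀ (b : ℕ) (i : ℕ), i < 4 → ∃ g ∈ planeGroup,
      cols g = if b = 1 then pairCols (sylGens.getD i (0, 0)) else colsOne := by
    intro b i hi
    split_ifs
    · exact ⟨sylGen i, Subgroup.subset_closure ⟨i, hi, rfl⟩, gen_mem_cols (by omega)⟩
    · exact ⟨1, one_mem _, cols_one⟩
  obtain ⟨a, ha, ea⟩ := hpick c.1 0 (by omega)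
  obtain ⟨b, hb, eb⟩ := hpick c.2.1 1 (by omega)
  obtain ⟨d, hd, ed⟩ := hpick c.2.2.1 2 (by omega)
  obtain ⟨e, he, ee⟩ := hpick c.2.2.2 3 (by omega)
  refine ⟨a * (b * (d * e)), mul_mem ha (mul_mem hb (mul_mem hd he)), ?_⟩
  rw [cols_mul, cols_mul, cols_mul, ea, eb, ed, ee]
  exact (beq_iff_eq.1 hc).symm

theorem plane_reach' (n : ℕ) (hn : n < 16) : ∃ g ∈ planeGroup, cols g = planeElts.getD n [] :=
  plane_reach _ (by
    rw [List.getD_eq_getElem _ _ (show n < planeElts.length by rw [plane_table_ok.2.2]; exact hn)]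
    exact List.getElem_mem _)

end CfsgLib.Sporadic.LargeFischer.Explicit
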