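import Cfsg.Agent.Lib.Sporadic.LargeFischer.Explicit.Cols
import Cfsg.Agent.Lib.Sporadic.LargeFischer.Explicit.HexaData
import Cfsg.Agent.Lib.Sporadic.LargeFischer.Stabilizers

/-!
# A Sylow two-subgroup of the linear part: its elementary abelian subgroups
-/

set_option autoImplicit false
set_option linter.unusedSectionVars false
set_option maxRecDepth 100000

namespace CfsgLib.Sporadic.LargeFischer.Explicit

/-- The generators. -/
noncomputable def sylGen (i : ℕ) : V6 ≃ₗ[ZMod 2] V6 := pairMap (sylGens.getD i (0, 0))

/-- The Sylow subgroup. -/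
noncomputable def sylGroup : Subgroup (V6 ≃ₗ[ZMod 2] V6) := Subgroup.closure {g | ∃ i < 6, g = sylGen i}

/-- The first four generators. -/
noncomputable def planeGroup : Subgroup (V6 ≃ₗ[ZMod 2] V6) := Subgroup.closure {g | ∃ i < 4, g = sylGen i}

theorem gens_ok : ∀ i < 6, inOb (dec (sylGens.getD i (0, 0)).1) = true ∧
    inOb (dec (sylGens.getD i (0, 0)).2) = true := by decide +kernel

theorem moves_ok : ∀ i < 3, inOb (dec (planeMoves.getD i (0, 0)).1) = true ∧
    inOb (dec (planeMoves.getD i (0, 0)).2) = true := by decide +kernel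

theorem table_ok :
    (sylElts.zipIdx.all fun e =>
      if e.2 = 0 then e.1 == colsOne
      else (sylRows.getD e.2 (0, 0)).1 < e.2 && (sylRows.getD e.2 (0, 0)).2 < 6 &&
        e.1 == colsComp (sylElts.getD (sylRows.getD e.2 (0, 0)).1 [])
          (pairCols (sylGens.getD (sylRows.getD e.2 (0, 0)).2 (0, 0)))) = true ∧
    sylElts.getD 0 [] = colsOne ∧
    (sylElts.all fun L => (List.range 6).all fun i => sylElts.contains (colsComp L (pairCols (sylGens.getD i (0, 0))))) = true ∧
    sylElts.Nodup ∧ sylElts.length = 128 := by
  refine ⟨?_, ?_, ?_, ?_, ?_⟩ <;> decide +kernel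

theorem plane_table_ok : planeElts.contains colsOne = true ∧
    (planeElts.all fun L => (List.range 4).all fun i => planeElts.contains (colsComp L (pairCols (sylGens.getD i (0, 0))))) = true ∧
    planeElts.length = 16 := by
  refine ⟨?_, ?_, ?_⟩ <;> decide +kernel

theorem invs_ok : (sylElts.filter fun L => !(L == colsOne) && colsComp L L == colsOne).all
    (fun L => sylInvs.contains L) = true := by decide +kernel

/-- Commuting lists. -/
def commB (L M : List ℕ) : Bool := colsComp L M == colsComp M L

/-- `L` fixes the image of `M - 1`. -/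
def fixB (L M : List ℕ) : Bool :=
  (List.range 12).all fun b => apN L (M.getD b 0 ^^^ 2 ^ b) == (M.getD b 0 ^^^ 2 ^ b)

theorem few_commuting : (sylInvs.filter fun L =>
    30 ≤ (sylInvs.filter fun M => !(M == L) && commB L M).length).length ≤ 1 := by decide +kernel

theorem clique_plane : (sylInvs.all fun L =>
    (sylInvs.filter fun M => !(M == L) && commB L M && fixB L M && fixB M L).length < 14 || planeElts.contains L) = true := by
  decide +kernel

/-- The elements of the span of the rows of `M - 1`. -/
def imgSpan (M : List ℕ) : List ℕ :=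
  (List.range 12).foldl (fun acc b =>
    if acc.contains (M.getD b 0 ^^^ 2 ^ b) then acc else acc ++ acc.map (fun a => a ^^^ (M.getD b 0 ^^^ 2 ^ b))) [0]

theorem img_big : (sylInvs.all fun L =>
    decide (16 ≤ (imgSpan L).length) && decide ((imgSpan L).Nodup) && (imgSpan L).all (fun a => a < 4096)) = true := by
  decide +kernel

end CfsgLib.Sporadic.LargeFischer.Explicit
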