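import Cfsg.Agent.Lib.Sporadic.LargeFischer.Explicit.MaxPair
import Cfsg.Agent.Lib.Sporadic.LargeFischer.Explicit.PlaneMoves
import Cfsg.Agent.Lib.Sporadic.LargeFischer.Explicit.Semilinear
import Cfsg.Agent.Lib.Sporadic.LargeFischer.Centralizer

/-!
# The elementary abelian subgroups of order `2¹¹` of the centraliser of `z`
-/

set_option autoImplicit false
set_option linter.style.haveILetI false
set_option linter.unusedSectionVars false

namespace CfsgLib.Sporadic.LargeFischer.LF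

open CfsgLib.ThreeTransp.Extraspecial Explicit

variable {G : Type*} [Group G] [Finite G] {z : G} {Q : Subgroup (Subgroup.centralizer ({z} : Set G))} [Q.Normal]
  {π : G → V6} {ψ : ↥(Subgroup.centralizer ({z} : Set G)) →* (V6 ≃ₗ[ZMod 2] V6)} (h : LF z (qImg Q) π ψ)
include h

/-- An element of order three acting as the scalar. -/
theorem exists_scalar : ∃ x : ↥(Subgroup.centralizer ({z} : Set G)), x ^ 3 = 1 ∧ ∀ v, ψ x v = omV v := by
  obtain ⟨N, M, -, -, -, -, hN, -, ⟨c, hc, hcv⟩, -⟩ := h.series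
  have hord : c ^ (3 * 8192) = 1 := by
    have h0 : (⟨c, hc⟩ : ↥N) ^ Nat.card N = 1 := pow_card_eq_one'
    rw [hN] at h0
    exact congrArg Subtype.val h0
  refine ⟨c ^ (16384 : ℕ), ?_, fun v => ?_⟩
  · rw [← pow_mul, show 16384 * 3 = 3 * 8192 * 2 by norm_num, pow_mul, hord, one_pow]
  · have h3 : ∀ v, (ψ c ^ 3) v = v := fun v => by
      show ψ c (ψ c (ψ c v)) = v
      rw [hcv, hcv, hcv, LargeFischer.omV_cube]
    have h3' : ψ c ^ 3 = 1 := LinearEquiv.ext h3
    rw [map_pow, show (16384 : ℕ) = 3 * 5461 + 1 by norm_num, pow_succ, pow_mul, h3', one_pow, one_mul]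
    exact hcv v

variable {x : ↥(Subgroup.centralizer ({z} : Set G))} (h3 : x ^ 3 = 1) (hx : ∀ v, ψ x v = omV v)
include h3 hx

theorem exists_lift_lin {g : V6 ≃ₗ[ZMod 2] V6} (hg : g ∈ ψ.range) (hl : Lin g) :
    ∃ d, Commute d x ∧ ψ d = g := by
  obtain ⟨c, rfl⟩ := hg
  exact h.exists_commuting hx h3 c hl

theorem lift_unique {d d' : ↥(Subgroup.centralizer ({z} : Set G))} (hd : Commute d x) (hd' : Commute d' x)
    (e : ψ d = ψ d') : (d' : G) = d ∨ (d' : G) = d * z := by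
  have hq : ((d⁻¹ * d' : ↥(Subgroup.centralizer ({z} : Set G))) : G) ∈ qImg Q :=
    (h.ker _).1 (by rw [map_mul, map_inv, e, inv_mul_cancel])
  have hc : Commute x (d⁻¹ * d') := (hd.inv_left.mul_left hd').symm
  have e' : (d' : G) = d * ((d⁻¹ * d' : ↥(Subgroup.centralizer ({z} : Set G))) : G) := by
    show (d' : G) = (d : G) * ((d : G)⁻¹ * d')
    rw [mul_inv_cancel_left]
  rcases h.Q_fixed hx hq (congrArg Subtype.val hc.eq) with e1 | e1 <;> rw [e1] at e'
  · exact Or.inl (by rw [e', mul_one])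
  · exact Or.inr e'

theorem sq_unique {d d' : ↥(Subgroup.centralizer ({z} : Set G))} (hd : Commute d x) (hd' : Commute d' x)
    (e : ψ d = ψ d') : (d' : G) * d' = d * d := by
  rcases h.lift_unique h3 hx hd hd' e with e' | e' <;> rw [e']
  have hz : z * (d : G) = d * z := (Subgroup.mem_centralizer_singleton_iff.1 d.2).symm
  calc (d : G) * z * ((d : G) * z) = (d : G) * (z * d) * z := by group
    _ = (d : G) * (d * z) * z := by rw [hz]
    _ = (d : G) * d * (z * z) := by group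
    _ = (d : G) * d := by rw [h.extra.z_sq, mul_one]

theorem sq_lift {d : ↥(Subgroup.centralizer ({z} : Set G))} (hd : Commute d x) (e : ψ d * ψ d = 1) :
    (d : G) * d = 1 ∨ (d : G) * d = z :=
  h.Q_fixed hx (a := ((d * d : ↥(Subgroup.centralizer ({z} : Set G))) : G)) ((h.ker _).1 (by rw [map_mul, e]))
    (congrArg Subtype.val (hd.mul_left hd).symm.eq)

/-- Having a lift which is an involution. -/
def InvLift (_h : LF z (qImg Q) π ψ) (x : ↥(Subgroup.centralizer ({z} : Set G))) (g : V6 ≃ₗ[ZMod 2] V6) : Prop :=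
  ∃ d, Commute d x ∧ ψ d = g ∧ (d : G) * d = 1

theorem invLift_conj {m g : V6 ≃ₗ[ZMod 2] V6} (hm : m ∈ ψ.range) (hl : Lin m) (hg : h.InvLift x g) :
    h.InvLift x (m * g * m⁻¹) := by
  obtain ⟨k, hk, rfl⟩ := h.exists_lift_lin h3 hx hm hl
  obtain ⟨d, hd, rfl, hd2⟩ := hg
  refine ⟨k * d * k⁻¹, (hk.mul_left hd).mul_left hk.inv_left, by rw [map_mul, map_mul, map_inv], ?_⟩
  show (k : G) * d * (k : G)⁻¹ * ((k : G) * d * (k : G)⁻¹) = 1
  calc (k : G) * d * (k : G)⁻¹ * ((k : G) * d * (k : G)⁻¹) = (k : G) * ((d : G) * d) * (k : G)⁻¹ := by group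
    _ = 1 := by rw [hd2, mul_one, mul_inv_cancel]

theorem invLift_plane (hpos : h.model.orb (c6 0) = h.model.orb c2) {a : V6 ≃ₗ[ZMod 2] V6} (ha : a ∈ planeGroup) : h.InvLift x a := by
  have hstd : Std ψ.range := ⟨h.model, hpos⟩
  have hmem : ∀ g ∈ planeGroup, g ∈ ψ.range ∧ Lin g := fun g hg =>
    ⟨(hstd.planeGroup_le_linPart hg).2, (hstd.planeGroup_le_linPart hg).1.1⟩
  have hsq : ∀ g ∈ planeGroup, g * g = 1 := by
    have hcomm : ∀ L ∈ planeElts, colsComp L L = colsOne := by decide +kernel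
    exact fun g hg => cols_injective (by rw [cols_mul, hcomm _ (plane_cols hg), cols_one])
  by_cases ha1 : a = 1
  · exact ha1 ▸ ⟨1, Commute.one_left x, map_one ψ, by simp⟩
  have hdich : ∀ b ∈ planeGroup, b ≠ 1 → (h.InvLift x a ↔ h.InvLift x b) := fun b hb hb1 =>
    plane_dichotomy (fun g => h.InvLift x g) (fun i hi g _ => by
      have hm := hstd.pairMap_mem (moves_ok i hi).1 (moves_ok i hi).2
      refine ⟨h.invLift_conj h3 hx hm.2 hm.1.1, fun e => ?_⟩
      have := h.invLift_conj h3 hx (inv_mem hm.2) (Lin.inv hm.1.1) e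
      rwa [show (pairMap (planeMoves.getD i (0, 0)))⁻¹ * (pairMap (planeMoves.getD i (0, 0)) * g *
        (pairMap (planeMoves.getD i (0, 0)))⁻¹) * (pairMap (planeMoves.getD i (0, 0)))⁻¹⁻¹ = g by group] at this)
      ha ha1 hb hb1
  by_contra hno
  -- every lift squares to `z`
  have hz : ∀ d, Commute d x → ψ d ∈ planeGroup → ψ d ≠ 1 → (d : G) * d = z := fun d hd hdp hd1 =>
    (h.sq_lift h3 hx hd (hsq _ hdp)).resolve_left fun e => hno ((hdich _ hdp hd1).2 ⟨d, hd, rfl, e⟩)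
  have hgen : ∀ i < 3, sylGen i ∈ planeGroup := fun i hi => Subgroup.subset_closure ⟨i, by omega, rfl⟩
  obtain ⟨d₁, hd₁, e₁⟩ := h.exists_lift_lin h3 hx (hmem _ (hgen 0 (by omega))).1 (hmem _ (hgen 0 (by omega))).2
  obtain ⟨d₂, hd₂, e₂⟩ := h.exists_lift_lin h3 hx (hmem _ (hgen 1 (by omega))).1 (hmem _ (hgen 1 (by omega))).2
  obtain ⟨d₃, hd₃, e₃⟩ := h.exists_lift_lin h3 hx (hmem _ (hgen 2 (by omega))).1 (hmem _ (hgen 2 (by omega))).2
  have hne : ∀ g : V6 ≃ₗ[ZMod 2] V6, cols g ≠ colsOne → g ≠ 1 := fun g hg e => hg (e ▸ cols_one)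
  have hi := three_independent
  simp only [List.mem_cons, List.not_mem_nil, or_false, not_or] at hi
  obtain ⟨i1, i2, i3, i12, i13, i23, i123⟩ := hi
  have g0 := gen_mem_cols (i := 0) (by omega)
  have g1 := gen_mem_cols (i := 1) (by omega)
  have g2 := gen_mem_cols (i := 2) (by omega)
  have p1 := hgen 0 (by omega)
  have p2 := hgen 1 (by omega)
  have p3 := hgen 2 (by omega)
  have s1 : (d₁ : G) * d₁ = z := hz d₁ hd₁ (e₁ ▸ p1) (e₁ ▸ hne _ (g0 ▸ Ne.symm i1))
  have s2 : (d₂ : G) * d₂ = z := hz d₂ hd₂ (e₂ ▸ p2) (e₂ ▸ hne _ (g1 ▸ Ne.symm i2))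
  have s3 : (d₃ : G) * d₃ = z := hz d₃ hd₃ (e₃ ▸ p3) (e₃ ▸ hne _ (g2 ▸ Ne.symm i3))
  have s12 : ((d₁ : G) * d₂) * (d₁ * d₂) = z := hz (d₁ * d₂) (hd₁.mul_left hd₂)
    (by rw [map_mul, e₁, e₂]; exact mul_mem p1 p2)
    (by rw [map_mul, e₁, e₂]; exact hne _ (by rw [cols_mul, g0, g1]; exact Ne.symm i12))
  have s13 : ((d₁ : G) * d₃) * (d₁ * d₃) = z := hz (d₁ * d₃) (hd₁.mul_left hd₃)
    (by rw [map_mul, e₁, e₃]; exact mul_mem p1 p3)
    (by rw [map_mul, e₁, e₃]; exact hne _ (by rw [cols_mul, g0, g2]; exact Ne.symm i13))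
  have s23 : ((d₂ : G) * d₃) * (d₂ * d₃) = z := hz (d₂ * d₃) (hd₂.mul_left hd₃)
    (by rw [map_mul, e₂, e₃]; exact mul_mem p2 p3)
    (by rw [map_mul, e₂, e₃]; exact hne _ (by rw [cols_mul, g1, g2]; exact Ne.symm i23))
  have s123 : ((d₁ : G) * d₂ * d₃) * (d₁ * d₂ * d₃) = z := hz (d₁ * d₂ * d₃) ((hd₁.mul_left hd₂).mul_left hd₃)
    (by rw [map_mul, map_mul, e₁, e₂, e₃]; exact mul_mem (mul_mem p1 p2) p3)
    (by rw [map_mul, map_mul, e₁, e₂, e₃]; exact hne _ (by rw [cols_mul, cols_mul, g0, g1, g2]; exact Ne.symm i123))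
  -- three pairwise anticommuting square roots of `z`
  have zz : ∀ d : ↥(Subgroup.centralizer ({z} : Set G)), z * (d : G) = d * z :=
    fun d => (Subgroup.mem_centralizer_singleton_iff.1 d.2).symm
  have anti : ∀ a b : ↥(Subgroup.centralizer ({z} : Set G)), (a : G) * a = z → (b : G) * b = z →
      (a : G) * b * (a * b) = z → (b : G) * a = a * b * z := fun a b ea eb eab => by
    have k : (a : G) * ((b : G) * a) * b = z := (show (a : G) * ((b : G) * a) * b = a * b * (a * b) by group).trans eab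
    calc (b : G) * a = (a : G)⁻¹ * ((a : G) * ((b : G) * a) * b) * (b : G)⁻¹ := by group
      _ = (a : G)⁻¹ * ((a : G) * a) * (b : G)⁻¹ := by rw [k, ea]
      _ = (a : G) * (b : G)⁻¹ := by group
      _ = (a : G) * ((b : G) * z) := by
        congr 1
        refine inv_eq_of_mul_eq_one_right ?_
        rw [← mul_assoc, eb, h.extra.z_sq]
      _ = _ := by group
  have c31 := anti d₁ d₃ s1 s3 s13
  have c32 := anti d₂ d₃ s2 s3 s23
  refine h.extra.z_ne (s123.symm.trans ?_)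
  calc (d₁ : G) * d₂ * d₃ * (d₁ * d₂ * d₃) = (d₁ : G) * d₂ * ((d₃ : G) * d₁) * d₂ * d₃ := by group
    _ = (d₁ : G) * d₂ * (d₁ * d₃) * (z * d₂) * d₃ := by rw [c31]; group
    _ = (d₁ : G) * d₂ * (d₁ * d₃) * (d₂ * z) * d₃ := by rw [zz]
    _ = (d₁ : G) * d₂ * d₁ * ((d₃ : G) * d₂) * (z * d₃) := by group
    _ = (d₁ : G) * d₂ * d₁ * (d₂ * d₃ * z) * (z * d₃) := by rw [c32]
    _ = (d₁ : G) * d₂ * (d₁ * d₂) * d₃ * (z * z) * d₃ := by group
    _ = z * ((d₃ : G) * d₃) := by rw [h.extra.z_sq, s12]; group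
    _ = 1 := by rw [s3, h.extra.z_sq]

omit h3 hx

/-- The elements centralising the preimage of `W` in `Q`. -/
def centW (_h : LF z (qImg Q) π ψ) (W : AddSubgroup V6) : Subgroup ↥(Subgroup.centralizer ({z} : Set G)) where
  carrier := {c | ∀ a ∈ qImg Q, π a ∈ W → (c : G) * a = a * (c : G)}
  one_mem' := fun a _ _ => (Commute.one_left a).eq
  mul_mem' := fun {c d} hc hd a ha hw => ((show Commute (c : G) a from hc a ha hw).mul_left (hd a ha hw)).eq
  inv_mem' := fun {c} hc a ha hw => (show Commute (c : G) a from hc a ha hw).inv_left.eq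

theorem centW_fix {W : AddSubgroup V6} {c : ↥(Subgroup.centralizer ({z} : Set G))} (hc : c ∈ h.centW W) {v : V6}
    (hv : v ∈ W) : ψ c v = v := by
  obtain ⟨a, ha, rfl⟩ := h.π_surj v
  rw [← h.act c a ha, hc a ha hv, mul_inv_cancel_right]

include h3 hx in
/-- Decomposition of the elements centralising the preimage of the plane. -/
theorem centW_plane (hpos : h.model.orb (c6 0) = h.model.orb c2) (hs : ¬ ∀ k ∈ ψ.range, Lin k)
    {c : ↥(Subgroup.centralizer ({z} : Set G))} (hc : c ∈ h.centW plane) : (c : G) * c = 1 := by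
  have hstd : Std ψ.range := ⟨h.model, hpos⟩
  obtain ⟨d, hd, hde, hd2⟩ := h.invLift_plane h3 hx hpos
    (hstd.mem_planeGroup_of_fix hs ⟨c, rfl⟩ fun v hv => h.centW_fix hc hv)
  have hdfix : ∀ a ∈ qImg Q, π a ∈ plane → (d : G) * a = a * d := fun a ha hw =>
    mul_inv_eq_iff_eq_mul.1 (h.fix_pointwise hx hd ha (by rw [hde, h.centW_fix hc hw]))
  have hq : ((d⁻¹ * c : ↥(Subgroup.centralizer ({z} : Set G))) : G) ∈ qImg Q :=
    (h.ker _).1 (by rw [map_mul, map_inv, hde, inv_mul_cancel])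
  set q : G := ((d⁻¹ * c : ↥(Subgroup.centralizer ({z} : Set G))) : G) with hqdef
  have hcq : (c : G) = d * q := by
    show (c : G) = (d : G) * ((d : G)⁻¹ * c)
    rw [mul_inv_cancel_left]
  have hqW : π q ∈ plane := perp_mem plane (fun w hw => qs_plane hw) card_plane fun r hr => by
    obtain ⟨a, ha, rfl⟩ := h.π_surj r
    refine h.bs_of_commute hq ha ?_
    exact ((show Commute (d : G) a from hdfix a ha hr).inv_left.mul_left (hc a ha hr)).eq
  have hdq : (d : G) * q = q * d := hdfix q hq hqW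
  rw [hcq]
  calc (d : G) * q * (d * q) = (d : G) * d * (q * q) := by
        rw [show (d : G) * q * (d * q) = (d : G) * (q * d) * q by group, ← hdq]; group
    _ = 1 := by rw [hd2, (h.q_iff q hq).1 (qs_plane hqW), mul_one]

theorem centW_comm {W : AddSubgroup V6} (hsq : ∀ c ∈ h.centW W, (c : G) * c = 1)
    {a b : ↥(Subgroup.centralizer ({z} : Set G))} (ha : a ∈ h.centW W) (hb : b ∈ h.centW W) :
    (a : G) * b = b * a := by
  have e : (a : G) * b * (a * b) = 1 := hsq (a * b) (mul_mem ha hb)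
  calc (a : G) * b = ((a : G) * b)⁻¹ := eq_inv_of_mul_eq_one_left e
    _ = (b : G)⁻¹ * (a : G)⁻¹ := mul_inv_rev _ _
    _ = b * a := by rw [inv_eq_of_mul_eq_one_right (hsq a ha), inv_eq_of_mul_eq_one_right (hsq b hb)]

theorem card_split (A : Subgroup ↥(Subgroup.centralizer ({z} : Set G))) :
    Nat.card ↥(A ⊓ Q) * Nat.card ↥(A.map ψ) = Nat.card A := by
  have h1 := (ψ.subgroupMap A).ker.card_mul_index
  rw [Subgroup.index_ker, MonoidHom.range_eq_top.2 (MonoidHom.subgroupMap_surjective _ _), Subgroup.card_top] at h1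
  rw [← h1]
  congr 1
  have hker : (ψ.subgroupMap A).ker = (A ⊓ Q).subgroupOf A := by
    ext a
    rw [MonoidHom.mem_ker, Subgroup.mem_subgroupOf, Subgroup.mem_inf, Subtype.ext_iff]
    show ψ a = 1 ↔ _
    rw [h.ker, mem_qImg_coe]
    exact ⟨fun e => ⟨a.2, e⟩, fun e => e.2⟩
  rw [hker]
  exact (Nat.card_congr (Subgroup.subgroupOfEquivOfLe inf_le_left).toEquiv).symm

/-- The image of a subgroup of `Q`. -/
def imgW (A : Subgroup ↥(Subgroup.centralizer ({z} : Set G))) : AddSubgroup V6 where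
  carrier := {v | ∃ c ∈ A ⊓ Q, π (c : G) = v}
  zero_mem' := ⟨1, one_mem _, h.π_one⟩
  add_mem' := fun {u v} ⟨c, hc, ec⟩ ⟨d, hd, ed⟩ => ⟨c * d, mul_mem hc hd, by
    show π ((c : G) * d) = _
    rw [h.π_mul _ (mem_qImg_coe.2 hc.2) _ (mem_qImg_coe.2 hd.2), ec, ed]⟩
  neg_mem' := fun {u} ⟨c, hc, ec⟩ => ⟨c, hc, by rw [ec]; exact (funext fun i => ZModModule.neg_eq_self (u i)).symm⟩

theorem card_imgW_ge (A : Subgroup ↥(Subgroup.centralizer ({z} : Set G))) :
    Nat.card ↥(A ⊓ Q) ≤ 2 * Nat.card (h.imgW A) := by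
  classical
  choose r hr hrπ using h.π_surj
  let f : ↥(A ⊓ Q) → ↥(h.imgW A) × Bool := fun c =>
    (⟨π ((c : ↥(Subgroup.centralizer ({z} : Set G))) : G), c, c.2, rfl⟩,
      decide (((c : ↥(Subgroup.centralizer ({z} : Set G))) : G) = r (π ((c : ↥(Subgroup.centralizer ({z} : Set G))) : G))))
  refine (Nat.card_le_card_of_injective f fun c d e => ?_).trans (by
    rw [Nat.card_prod, show Nat.card Bool = 2 by simp, mul_comm])
  obtain ⟨e1, e2⟩ := Prod.mk.inj e
  rw [decide_eq_decide] at e2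
  have e1' := congrArg Subtype.val e1
  simp only at e1'
  rw [← e1'] at e2
  refine Subtype.ext (Subtype.ext ?_)
  rcases (h.π_eq_iff (hr _) (mem_qImg_coe.2 c.2.2)).1 (hrπ _) with ec | ec
  · rw [ec]; exact (e2.1 ec).symm
  · rcases (h.π_eq_iff (hr _) (mem_qImg_coe.2 d.2.2)).1 ((hrπ _).trans e1') with ed | ed
    · have := ec.symm.trans (e2.2 ed)
      exact absurd (mul_eq_left.1 this) h.extra.z_ne
    · rw [ec, ed]

end CfsgLib.Sporadic.LargeFischer.LF
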