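import Cfsg.Agent.Lib.Sporadic.LargeFischer.Explicit.Thompson
import Cfsg.Prelude.Def_Transfer

/-!
# The Thompson subgroup of a Sylow two-subgroup of the centraliser of `z`
-/

set_option autoImplicit false
set_option linter.style.haveILetI false
set_option linter.unusedSectionVars false

namespace CfsgLib.Sporadic.LargeFischer.LF

open CfsgLib.ThreeTransp.Extraspecial Explicit

variable {G : Type*} [Group G] [Finite G] {z : G} {Q : Subgroup (Subgroup.centralizer ({z} : Set G))} [Q.Normal]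
  {π : G → V6} {ψ : ↥(Subgroup.centralizer ({z} : Set G)) →* (V6 ≃ₗ[ZMod 2] V6)} (h : LF z (qImg Q) π ψ)
include h

theorem range_pos (hpos : h.model.orb (c6 0) = h.model.orb c2) : Std ψ.range := ⟨h.model, hpos⟩

theorem mem_centW_inf {W : AddSubgroup V6} (hW : ∀ w ∈ W, qs w = 0) {c : ↥(Subgroup.centralizer ({z} : Set G))}
    (hcQ : c ∈ Q) (hc : π (c : G) ∈ W) : c ∈ h.centW W := fun a ha hw => by
  refine h.commute_of_bs (mem_qImg_coe.2 hcQ) ha ?_
  show qs (π (c : G) + π a) + qs (π (c : G)) + qs (π a) = 0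
  rw [hW _ (add_mem hc hw), hW _ hc, hW _ hw]; rfl

/-- The preimage of `W` in `Q` has twice the order of `W`. -/
theorem card_preimage {W : AddSubgroup V6} (A : Subgroup ↥(Subgroup.centralizer ({z} : Set G)))
    (hA : ∀ c ∈ Q, π (c : G) ∈ W → c ∈ A) : 2 * Nat.card W ≤ Nat.card ↥(A ⊓ Q) := by
  classical
  choose r hr hrπ using h.π_surj
  let f : ↥W × Bool → ↥(A ⊓ Q) := fun p =>
    ⟨⟨if p.2 then r p.1 else r p.1 * z, by
      split_ifs
      · exact h.mem_cent (hr _)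
      · exact mul_mem (h.mem_cent (hr _)) (h.mem_cent h.extra.z_mem)⟩, by
      refine ⟨hA _ ?_ ?_, ?_⟩
      all_goals first | exact mem_qImg_coe.1 (by
        show (if p.2 then r (p.1 : V6) else r p.1 * z) ∈ qImg Q
        split_ifs
        · exact hr _
        · exact mul_mem (hr _) h.extra.z_mem) | (
        show π (if p.2 then r (p.1 : V6) else r p.1 * z) ∈ W
        split_ifs
        · rw [hrπ]; exact p.1.2
        · rw [h.π_mul _ (hr _) z h.extra.z_mem, h.π_z, add_zero, hrπ]; exact p.1.2)⟩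
  have hf : Function.Injective f := by
    rintro ⟨u, a⟩ ⟨w, b⟩ e
    have e' : (if a then r (u : V6) else r u * z) = (if b then r (w : V6) else r w * z) :=
      congrArg (fun c : ↥(A ⊓ Q) => ((c : ↥(Subgroup.centralizer ({z} : Set G))) : G)) e
    have huw : u = w := by
      have e2 := congrArg π e'
      split_ifs at e2 <;> simp only [h.π_mul _ (hr _) z h.extra.z_mem, h.π_z, add_zero, hrπ] at e2 <;>
        exact Subtype.ext e2
    subst huw
    cases a <;> cases b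
    · rfl
    · exact absurd (mul_eq_left.1 (show r (u : V6) * z = r u from e')) h.extra.z_ne
    · exact absurd (mul_eq_left.1 (show r (u : V6) * z = r u from e'.symm)) h.extra.z_ne
    · rfl
  have := Nat.card_le_card_of_injective f hf
  rwa [Nat.card_prod, show Nat.card Bool = 2 by simp, mul_comm] at this

/-- The centraliser of the preimage of the plane. -/
theorem centW_plane_spec (hpos : h.model.orb (c6 0) = h.model.orb c2) (hs : ¬ ∀ k ∈ ψ.range, Lin k) :
    Cfsg.IsElementaryAbelian 2 (h.centW plane) ∧ Nat.card (h.centW plane) = 2048 := by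
  classical
  obtain ⟨x, h3, hx⟩ := h.exists_scalar
  have hsq : ∀ c ∈ h.centW plane, (c : G) * c = 1 := fun c hc => h.centW_plane h3 hx hpos hs hc
  refine ⟨⟨⟨⟨fun a b => Subtype.ext (Subtype.ext (h.centW_comm hsq a.2 b.2))⟩⟩, fun a ha => by
    rw [pow_two]; exact Subtype.ext (hsq a ha)⟩, ?_⟩
  have hstd := h.range_pos hpos
  have hmap : (h.centW plane).map ψ = planeGroup := by
    ext g
    constructor
    · rintro ⟨c, hc, rfl⟩
      exact hstd.mem_planeGroup_of_fix hs ⟨c, rfl⟩ fun v hv => h.centW_fix hc hv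
    · intro hg
      obtain ⟨d, hd, hde, -⟩ := h.invLift_plane h3 hx hpos hg
      exact ⟨d, fun a ha hw => mul_inv_eq_iff_eq_mul.1
        (h.fix_pointwise hx hd ha (by rw [hde]; exact planeGroup_fix hg hw)), hde⟩
  have hlow := h.card_preimage (W := plane) (h.centW plane)
    fun c hcQ hc => h.mem_centW_inf (fun w hw => qs_plane hw) hcQ hc
  have hupp := h.card_imgW_ge (h.centW plane)
  have hle : h.imgW (h.centW plane) ≤ plane := by
    rintro _ ⟨c, ⟨hc, hcQ⟩, rfl⟩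
    refine perp_mem plane (fun w hw => qs_plane hw) card_plane fun r hr => ?_
    obtain ⟨a, ha, rfl⟩ := h.π_surj r
    exact h.bs_of_commute (mem_qImg_coe.2 hcQ) ha (hc a ha hr)
  have hle' : Nat.card (h.imgW (h.centW plane)) ≤ 64 := by
    rw [← card_plane]
    exact Nat.card_le_card_of_injective _ (AddSubgroup.inclusion_injective hle)
  have hsplit := h.card_split (h.centW plane)
  rw [hmap, card_planeGroup] at hsplit
  rw [card_plane] at hlow
  omega

/-- The data of an elementary abelian subgroup of order at least `2¹¹`. -/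
theorem big_spec (hpos : h.model.orb (c6 0) = h.model.orb c2) (hs : ¬ ∀ k ∈ ψ.range, Lin k)
    (A : Subgroup ↥(Subgroup.centralizer ({z} : Set G))) (hA : Cfsg.IsElementaryAbelian 2 A)
    (hbig : 2048 ≤ Nat.card A) :
    Nat.card A = 2048 ∧ Nat.card ↥(A ⊓ Q) = 128 ∧ Nat.card ↥(A.map ψ) = 16 ∧
      A = h.centW (h.imgW A) ∧ (∀ w ∈ h.imgW A, qs w = 0) ∧ (∀ g ∈ A.map ψ, ∀ w ∈ h.imgW A, g w = w) ∧
      1024 ≤ Nat.card ↥(A.map ψ) * Nat.card (h.imgW A) := by
  classical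
  have hstd := h.range_pos hpos
  obtain ⟨⟨⟨hcomm⟩⟩, hexp⟩ := hA
  have hsqA : ∀ c ∈ A, (c : G) * c = 1 := fun c hc => by
    have := hexp c hc
    rw [pow_two] at this
    exact congrArg Subtype.val this
  have hcA : ∀ a ∈ A, ∀ b ∈ A, (a : G) * b = b * a := fun a ha b hb =>
    congrArg (fun e : ↥A => ((e : ↥(Subgroup.centralizer ({z} : Set G))) : G)) (hcomm ⟨a, ha⟩ ⟨b, hb⟩)
  have hW : ∀ w ∈ h.imgW A, qs w = 0 := by
    rintro _ ⟨c, hc, rfl⟩
    exact (h.q_iff _ (mem_qImg_coe.2 hc.2)).2 (hsqA c hc.1)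
  have hfix : ∀ g ∈ A.map ψ, ∀ w ∈ h.imgW A, g w = w := by
    rintro _ ⟨a, ha, rfl⟩ _ ⟨c, hc, rfl⟩
    rw [← h.act a _ (mem_qImg_coe.2 hc.2), hcA a ha c hc.1, mul_inv_cancel_right]
  have hFc : ∀ a ∈ A.map ψ, ∀ b ∈ A.map ψ, a * b = b * a := by
    rintro _ ⟨a, ha, rfl⟩ _ ⟨b, hb, rfl⟩
    rw [← map_mul, ← map_mul, show a * b = b * a from Subtype.ext (hcA a ha b hb)]
  have hFs : ∀ a ∈ A.map ψ, a * a = 1 := by
    rintro _ ⟨a, ha, rfl⟩
    rw [← map_mul, show a * a = 1 from Subtype.ext (hsqA a ha), map_one]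
  have hsplit := h.card_split A
  have hupp := h.card_imgW_ge A
  have hbig' : 1024 ≤ Nat.card ↥(A.map ψ) * Nat.card (h.imgW A) := by
    have := Nat.mul_le_mul_right (Nat.card ↥(A.map ψ)) hupp
    rw [hsplit] at this
    nlinarith
  obtain ⟨hF16, hW64, -, k, hk, hkW, hkF⟩ := hstd.max_pair hs (A.map ψ)
    (fun g ⟨c, _, e⟩ => ⟨c, e⟩) hFc hFs (h.imgW A) hW hfix hbig'
  rw [hF16] at hsplit
  rw [hW64] at hupp
  refine ⟨by omega, by omega, hF16, ?_, hW, hfix, hbig'⟩
  -- a lift of the conjugating element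
  obtain ⟨c, rfl⟩ := hk.2
  have hconj : ∀ b, b ∈ h.centW (h.imgW A) → c⁻¹ * b * c ∈ h.centW plane := by
    intro b hb a ha hw
    obtain ⟨hm, hπ⟩ := h.π_conj c ha
    have hmem : π ((c : G) * a * (c : G)⁻¹) ∈ h.imgW A := by
      rw [hπ, hkW]
      show (ψ c).symm (ψ c (π a)) ∈ plane
      rw [LinearEquiv.symm_apply_apply]; exact hw
    have e := hb _ hm hmem
    show (c : G)⁻¹ * b * c * a = a * ((c : G)⁻¹ * b * c)
    calc (c : G)⁻¹ * b * c * a = (c : G)⁻¹ * ((b : G) * ((c : G) * a * (c : G)⁻¹)) * c := by group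
      _ = _ := by rw [e]; group
  have hle : A ≤ h.centW (h.imgW A) := by
    intro a ha q hq hqW
    obtain ⟨d, hd, hdq⟩ := hqW
    rcases (h.π_eq_iff (mem_qImg_coe.2 hd.2) hq).1 hdq with e | e
    · rw [e]; exact hcA a ha d hd.1
    · rw [e]
      exact ((show Commute (a : G) d from hcA a ha d hd.1).mul_right
        (Subgroup.mem_centralizer_singleton_iff.1 a.2)).eq
  refine Subgroup.eq_of_le_of_card_ge hle ?_
  refine le_trans ?_ hbig
  rw [← (h.centW_plane_spec hpos hs).2]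
  refine Nat.card_le_card_of_injective (fun b : ↥(h.centW (h.imgW A)) => (⟨c⁻¹ * b * c, hconj b b.2⟩ : ↥(h.centW plane)))
    fun a b e => Subtype.ext ?_
  exact mul_left_cancel (mul_right_cancel (congrArg Subtype.val e))

/-- Uniqueness inside a two-subgroup, and existence. -/
theorem sylow_max (hpos : h.model.orb (c6 0) = h.model.orb c2) (hs : ¬ ∀ k ∈ ψ.range, Lin k)
    (T : Sylow 2 ↥(Subgroup.centralizer ({z} : Set G))) :
    ∃ A : Subgroup ↥(Subgroup.centralizer ({z} : Set G)), A ≤ ↑T ∧ Cfsg.IsElementaryAbelian 2 A ∧ Nat.card A = 2048 ∧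
      Nat.card ↥(A ⊓ Q) = 128 ∧ Nat.card ↥(A.map ψ) = 16 ∧
      ∀ B : Subgroup ↥(Subgroup.centralizer ({z} : Set G)), B ≤ ↑T → Cfsg.IsElementaryAbelian 2 B →
        2048 ≤ Nat.card B → B = A := by
  classical
  haveI : Fact (Nat.Prime 2) := ⟨Nat.prime_two⟩
  obtain ⟨hel, hcard⟩ := h.centW_plane_spec hpos hs
  have hp : IsPGroup 2 (h.centW plane) := IsPGroup.of_card (n := 11) (by rw [hcard]; norm_num)
  obtain ⟨T', hT'⟩ := hp.exists_le_sylow
  obtain ⟨g, hg⟩ := MulAction.exists_smul_eq ↥(Subgroup.centralizer ({z} : Set G)) T' T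
  set A := (h.centW plane).map (MulAut.conj g).toMonoidHom with hAdef
  have hAT : A ≤ (T : Subgroup ↥(Subgroup.centralizer ({z} : Set G))) := by
    rw [← hg]
    rintro _ ⟨a, ha, rfl⟩
    exact ⟨a, hT' ha, rfl⟩
  have hAel : Cfsg.IsElementaryAbelian 2 A := by
    obtain ⟨⟨⟨hc⟩⟩, he⟩ := hel
    refine ⟨⟨⟨?_⟩⟩, ?_⟩
    · rintro ⟨_, a, ha, rfl⟩ ⟨_, b, hb, rfl⟩
      refine Subtype.ext ?_
      show MulAut.conj g a * MulAut.conj g b = MulAut.conj g b * MulAut.conj g a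
      rw [← map_mul, ← map_mul, show a * b = b * a from congrArg Subtype.val (hc ⟨a, ha⟩ ⟨b, hb⟩)]
    · rintro _ ⟨a, ha, rfl⟩
      rw [← map_pow, he a ha, map_one]
  have hAcard : Nat.card A = 2048 := (Subgroup.card_map_of_injective (MulAut.conj g).injective).trans hcard
  obtain ⟨-, hAQ, hAψ, hAeq, hAW, hAfix, hAbig⟩ := h.big_spec hpos hs A hAel (le_of_eq hAcard.symm)
  refine ⟨A, hAT, hAel, hAcard, hAQ, hAψ, fun B hBT hB hBbig => ?_⟩
  obtain ⟨-, -, -, hBeq, hBW, hBfix, hBbig'⟩ := h.big_spec hpos hs B hB hBbig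
  have hstd := h.range_pos hpos
  have key : ∀ (C : Subgroup ↥(Subgroup.centralizer ({z} : Set G))), Cfsg.IsElementaryAbelian 2 C →
      (∀ a ∈ C.map ψ, ∀ b ∈ C.map ψ, a * b = b * a) ∧ ∀ a ∈ C.map ψ, a * a = 1 := by
    rintro C ⟨⟨⟨hc⟩⟩, he⟩
    constructor
    · rintro _ ⟨a, ha, rfl⟩ _ ⟨b, hb, rfl⟩
      rw [← map_mul, ← map_mul, show a * b = b * a from congrArg Subtype.val (hc ⟨a, ha⟩ ⟨b, hb⟩)]
    · rintro _ ⟨a, ha, rfl⟩
      rw [← map_mul, ← pow_two, he a ha, map_one]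
  rw [hBeq, hAeq, hstd.max_pair_unique hs ((T : Subgroup ↥(Subgroup.centralizer ({z} : Set G))).map ψ)
    (fun x ⟨c, _, e⟩ => ⟨c, e⟩) (T.isPGroup'.map ψ) (B.map ψ) (A.map ψ) (Subgroup.map_mono hBT) (Subgroup.map_mono hAT)
    (key B hB).1 (key A hAel).1 (key B hB).2 (key A hAel).2 (h.imgW B) (h.imgW A) hBW hAW hBfix hAfix hBbig' hAbig]

end CfsgLib.Sporadic.LargeFischer.LF
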